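import Cfsg.Agent.Chev.GTwoInv.Cent
import Mathlib.NumberTheory.Padics.PadicVal.Basic

/-!
Regular unipotent elements of `G₂(3)` and `G₂(5)` of order the square of the characteristic, by matrices.
-/

set_option autoImplicit false
set_option maxRecDepth 100000

open Cfsg.Lie

namespace Cfsg.Lib.GTwoOrdOdd

/-- The position of a coordinate. -/
def idxPos : chevG2.Idx → ℕ
  | Sum.inl i => i.val
  | Sum.inr r => 2 + r.val

/-- A matrix over a prime field from its rows in base `p`. -/
def ofDigits (p : ℕ) (L : List ℕ) : Matrix chevG2.Idx chevG2.Idx (ZMod p) :=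
  Matrix.of fun i j => ((L.getD (idxPos i) 0 / p ^ idxPos j % p : ℕ) : ZMod p)

instance : Fact (Nat.Prime 5) := ⟨Nat.prime_five⟩

/-- A matrix of rows. -/
def u3 : Matrix chevG2.Idx chevG2.Idx (ZMod 3) := ofDigits 3 [730, 2244, 9, 45, 135, 459, 1323, 2241, 10965, 21145, 93316, 242757, 538002, 2132325]

/-- A matrix of rows. -/
def u3_2 : Matrix chevG2.Idx chevG2.Idx (ZMod 3) := ofDigits 3 [2053, 4386, 9, 36, 117, 387, 1044, 2223, 11013, 23768, 110490, 327355, 548967, 2661609]

/-- A matrix of rows. -/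
def u3_p : Matrix chevG2.Idx chevG2.Idx (ZMod 3) := ofDigits 3 [100, 12, 9, 27, 81, 261, 783, 2187, 6615, 20187, 59967, 177571, 533646, 1594371]

theorem u3_eq : chevG2.xMat (ZMod 3) ⟨6, by decide⟩ 1 * chevG2.xMat (ZMod 3) ⟨7, by decide⟩ 1 = u3 := by
  decide +kernel

theorem u3_sq : u3 * u3 = u3_2 := by decide +kernel

theorem u3_three : u3_2 * u3 = u3_p ∧ u3_p ≠ 1 := by decide +kernel

/-- A matrix of rows. -/
def u5 : Matrix chevG2.Idx chevG2.Idx (ZMod 5) := ofDigits 5 [15626, 89880, 25, 225, 1125, 4875, 30125, 89875, 757643, 2015633, 13343758, 78515625, 410546875, 1631250000]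

/-- A matrix of rows. -/
def u5_2 : Matrix chevG2.Idx chevG2.Idx (ZMod 5) := ofDigits 5 [45751, 168905, 25, 200, 1025, 5775, 27600, 82775, 539981, 2059761, 15039626, 66335757, 327679504, 1910101379]

/-- A matrix of rows. -/
def u5_4 : Matrix chevG2.Idx chevG2.Idx (ZMod 5) := ofDigits 5 [75076, 312530, 25, 150, 775, 5600, 18750, 86400, 703587, 2106272, 18283587, 74929212, 368997818, 2197500035]

/-- A matrix of rows. -/
def u5_p : Matrix chevG2.Idx chevG2.Idx (ZMod 5) := ofDigits 5 [76, 30, 25, 125, 625, 3125, 15625, 78125, 391000, 1953125, 9767500, 48834375, 244296875, 1220703160]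

theorem u5_eq : chevG2.xMat (ZMod 5) ⟨6, by decide⟩ 1 * chevG2.xMat (ZMod 5) ⟨7, by decide⟩ 1 = u5 := by
  decide +kernel

theorem u5_sq : u5 * u5 = u5_2 := by decide +kernel

theorem u5_four : u5_2 * u5_2 = u5_4 := by decide +kernel

theorem u5_five : u5_4 * u5 = u5_p ∧ u5_p ≠ 1 := by decide +kernel

end Cfsg.Lib.GTwoOrdOdd
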