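import Cfsg.Agent.Chev.GTwoOrdersOdd.Mixed
import Cfsg.Agent.Chev.GTwoOrdersOdd.Witness

/-!
Elements of the maximal orders of `G₂`, odd characteristic, and the comparison of these orders.
-/

set_option autoImplicit false
set_option linter.unusedSectionVars false

open Cfsg.Lie

namespace Cfsg.Lib.GTwoOrdOdd

open Cfsg.Lib.Chev
open Cfsg.Lib.GTwoInv (S2 half_eq x)
open Cfsg.Lib.GTwoOdd (Pairs Phi Phi_eq_one_iff glD dl dl_glD glD_inj mem_Pairs neZero_two)

theorem mem_order {F : Type*} [Field F] {p : ↥(Pairs F)} : Phi p ∈ chevG2.group F :=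
  (Subgroup.mem_inf.1 (GTwoOdd.Phi_mem p)).1

section Field

variable {F : Type*} [Field F] [Fintype F] (p : ℕ) [Fact p.Prime] [CharP F p]

/-- A matrix with eigenvalues `z`, `z^q`. -/
theorem singer2 {K : Type*} [Field K] [Algebra F K] (σ : K →+* K) (hσ : ∀ z, σ z = z ^ Fintype.card F)
    (hfix : ∀ z, σ z = z → z ∈ Set.range (algebraMap F K)) (hsq : ∀ z, σ (σ z) = z) (z : Kˣ)
    (hz : σ (z : K) ≠ z) :
    ∃ A : GL (Fin 2) F, orderOf A = orderOf z ∧ algebraMap F K (dl A : F) = (z : K) * σ (z : K) := by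
  classical
  set l : K := (z : K) with hl
  set m : K := σ (z : K) with hm
  obtain ⟨τ, hτ⟩ := hfix (l + m) (by rw [map_add, hm, hl, hsq]; ring)
  obtain ⟨δ, hδ⟩ := hfix (l * m) (by rw [map_mul, hm, hl, hsq]; ring)
  set f := algebraMap F K
  have hl0 : l ≠ 0 := z.ne_zero
  have hm0 : m ≠ 0 := fun h => hl0 (by rw [hl, ← hsq (z : K), ← hm, h, map_zero])
  have hδ0 : δ ≠ 0 := fun h => mul_ne_zero hl0 hm0 (by rw [← hδ, h, map_zero])
  let M : Matrix (Fin 2) (Fin 2) F := !![0, -δ; 1, τ]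
  have hdet : M.det = δ := by simp [M, Matrix.det_fin_two]
  let A : GL (Fin 2) F := Matrix.GeneralLinearGroup.mkOfDetNeZero M (by rw [hdet]; exact hδ0)
  have hA : (A : Matrix (Fin 2) (Fin 2) F) = M := rfl
  refine ⟨A, ?_, ?_⟩
  swap
  · rw [← hδ]
    congr 1
  set P : Matrix (Fin 2) (Fin 2) K := !![1, l; 1, m]
  set D : Matrix (Fin 2) (Fin 2) K := !![l, 0; 0, m]
  have hPC : P * M.map f = D * P := by
    ext i j
    fin_cases i <;> fin_cases j <;> simp [P, D, M, Matrix.mul_apply, Fin.sum_univ_two, hτ, hδ] <;> ring1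
  have hpow : ∀ k : ℕ, P * (M.map f) ^ k = D ^ k * P := by
    intro k
    induction k with
    | zero => simp
    | succ k ih => rw [pow_succ, ← mul_assoc, ih, mul_assoc, hPC, ← mul_assoc, ← pow_succ]
  have hDn : ∀ k : ℕ, D ^ k = !![l ^ k, 0; 0, m ^ k] := by
    intro k
    induction k with
    | zero => ext i j; fin_cases i <;> fin_cases j <;> simp
    | succ k ih =>
      rw [pow_succ, ih]
      ext i j
      fin_cases i <;> fin_cases j <;> simp [D, Matrix.mul_apply, Fin.sum_univ_two, pow_succ]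
  have hP : IsUnit P := by
    rw [Matrix.isUnit_iff_isUnit_det, isUnit_iff_ne_zero]
    simp only [P, Matrix.det_fin_two_of, one_mul, mul_one]
    exact sub_ne_zero.2 hz
  refine orderOf_eq_orderOf_iff.2 fun k => ⟨fun e => ?_, fun e => ?_⟩
  · have h1 := hpow k
    have h2 : (M.map f) ^ k = 1 := by
      rw [← RingHom.mapMatrix_apply, ← map_pow, ← hA, ← Units.val_pow_eq_pow_val, e, Units.val_one, map_one]
    rw [h2, mul_one] at h1
    have h3 : D ^ k = 1 := hP.mul_right_cancel (h1.symm.trans (one_mul P).symm)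
    have h4 := congrFun (congrFun (hDn k) 0) 0
    rw [h3] at h4
    simp at h4
    exact Units.ext (by rw [Units.val_pow_eq_pow_val, ← hl, ← h4, Units.val_one])
  · have hlk : l ^ k = 1 := by rw [hl, ← Units.val_pow_eq_pow_val, e, Units.val_one]
    have hmk : m ^ k = 1 := by rw [hm, ← map_pow, ← hl, hlk, map_one]
    have h1 := hpow k
    rw [hDn, hlk, hmk, ← Matrix.one_fin_two, one_mul] at h1
    have h3 : (M.map f) ^ k = 1 := hP.mul_left_cancel (h1.trans (mul_one P).symm)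
    refine Units.ext ?_
    rw [Units.val_pow_eq_pow_val, hA, Units.val_one]
    refine Matrix.map_injective f.injective ?_
    show f.mapMatrix (M ^ k) = f.mapMatrix 1
    rw [map_pow, map_one]
    exact h3

include p in
theorem exists_singer2 (hq : 3 ≤ Fintype.card F) :
    (∃ A : GL (Fin 2) F, orderOf A = Fintype.card F ^ 2 - 1) ∧
      ∃ A : GL (Fin 2) F, orderOf A = Fintype.card F + 1 ∧ dl A = 1 := by
  classical
  set q := Fintype.card F with hqdef
  let K := FiniteField.Extension F p 2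
  letI : Fintype K := Fintype.ofFinite K
  let σ : K →+* K := (FiniteField.Extension.frob F p 2).toRingEquiv.toRingHom
  have hσ : ∀ z, σ z = z ^ q := fun z => by
    rw [hqdef, ← Nat.card_eq_fintype_card]
    exact FiniteField.Extension.frob_apply F p 2
  have hfix : ∀ z, σ z = z → z ∈ Set.range (algebraMap F K) := by
    intro z hz
    refine (IsGalois.mem_range_algebraMap_iff_fixed z).2 fun f => ?_
    obtain ⟨i, -, rfl⟩ := FiniteField.Extension.exists_frob_pow_eq F p 2 f
    induction i with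
    | zero => rfl
    | succ i ih =>
      rw [pow_succ, AlgEquiv.mul_apply]
      rw [show (FiniteField.Extension.frob F p 2) z = z from hz, ih]
  have hK : Fintype.card K = q ^ 2 := by
    rw [← Nat.card_eq_fintype_card, hqdef, ← Nat.card_eq_fintype_card]
    exact FiniteField.natCard_extension F p 2
  have hsq : ∀ z, σ (σ z) = z := fun z => by
    rw [hσ, hσ, ← pow_mul, ← pow_two, ← hK, FiniteField.pow_card]
  obtain ⟨u, hu⟩ := IsCyclic.exists_ofOrder_eq_natCard (α := Kˣ)
  rw [Nat.card_units, Nat.card_eq_fintype_card, hK] at hu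
  have hfac : q ^ 2 - 1 = (q - 1) * (q + 1) := by
    rw [show (q : ℕ) ^ 2 - 1 = q ^ 2 - 1 ^ 2 by norm_num, Nat.sq_sub_sq, mul_comm]
  have hmove : ∀ v : Kˣ, q - 1 < orderOf v → σ (v : K) ≠ v := by
    intro v hv h
    rw [hσ] at h
    have h' : v ^ (q - 1) = 1 := by
      refine Units.ext (mul_right_cancel₀ v.ne_zero ?_)
      rw [Units.val_pow_eq_pow_val, ← pow_succ, show q - 1 + 1 = q by omega, h, Units.val_one, one_mul]
    have := Nat.le_of_dvd (by omega) (orderOf_dvd_of_pow_eq_one h')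
    omega
  constructor
  · obtain ⟨A, hA, -⟩ := singer2 σ hσ hfix hsq u (hmove u (by
      rw [hu, hfac]
      have : (q - 1) * 2 ≤ (q - 1) * (q + 1) := Nat.mul_le_mul_left _ (by omega)
      omega))
    exact ⟨A, by rw [hA, hu]⟩
  · have hzo : orderOf (u ^ (q - 1)) = q + 1 := by
      rw [orderOf_pow_of_dvd (by omega) (by rw [hu, hfac]; exact dvd_mul_right _ _), hu, hfac,
        Nat.mul_div_cancel_left _ (by omega)]
    obtain ⟨A, hA, hd⟩ := singer2 σ hσ hfix hsq (u ^ (q - 1)) (hmove _ (by omega))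
    refine ⟨A, by rw [hA, hzo], Units.ext ((algebraMap F K).injective ?_)⟩
    rw [hd, Units.val_one, map_one, hσ, ← pow_succ', ← Units.val_pow_eq_pow_val, ← hzo, pow_orderOf_eq_one,
      Units.val_one]

include p in
theorem order_sq (hq : 3 ≤ Fintype.card F) (hp2 : p ≠ 2) :
    ∃ g ∈ chevG2.group F, orderOf g = Fintype.card F ^ 2 - 1 := by
  haveI : NeZero (2 : F) := ⟨two_ne_zero' p hp2⟩
  obtain ⟨A, hA⟩ := (exists_singer2 p hq).1
  set q := Fintype.card F with hqdef
  let P : ↥(Pairs F) := ⟨(A, glD (dl A) 1), mem_Pairs.2 (by show dl A = dl (glD (dl A) 1); rw [dl_glD, mul_one])⟩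
  refine ⟨Phi P, mem_order, ?_⟩
  have hB : ∀ k : ℕ, (glD (dl A) 1 : GL (Fin 2) F) ^ k = glD (dl A ^ k) 1 := by
    intro k
    induction k with
    | zero => rw [pow_zero, pow_zero]; ext i j; fin_cases i <;> fin_cases j <;> simp [glD]
    | succ k ih =>
      rw [pow_succ, ih, pow_succ]
      ext i j; fin_cases i <;> fin_cases j <;> simp [glD, Matrix.mul_apply, Fin.sum_univ_two]
  rw [← hA]
  refine orderOf_eq_orderOf_iff.2 fun k => ⟨fun e => ?_, fun e => ?_⟩
  · rw [← map_pow, Phi_eq_one_iff] at e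
    obtain ⟨a, ha⟩ := e
    rw [SubmonoidClass.coe_pow, Prod.pow_mk, Prod.mk.injEq, hB] at ha
    have h11 := congrArg (fun M : GL (Fin 2) F => (M : Matrix (Fin 2) (Fin 2) F) 1 1) ha.2
    simp [glD] at h11
    have ha1 : a = 1 := Units.ext (by rw [Units.val_one]; exact h11.symm)
    rw [ha.1, ha1]
    ext i j; fin_cases i <;> fin_cases j <;> simp [glD]
  · rw [← map_pow, Phi_eq_one_iff]
    refine ⟨1, ?_⟩
    rw [SubmonoidClass.coe_pow, Prod.pow_mk, e, hB, ← map_pow, e, map_one]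
    have h1 : (glD 1 1 : GL (Fin 2) F) = 1 := by ext i j; fin_cases i <;> fin_cases j <;> simp [glD]
    rw [h1]

theorem order_p_mul (hp2 : p ≠ 2) {B : GL (Fin 2) F} (hB : dl B = 1) (hcop : Nat.Coprime p (orderOf B)) :
    ∃ g ∈ chevG2.group F, orderOf g = p * orderOf B := by
  haveI : NeZero (2 : F) := ⟨two_ne_zero' p hp2⟩
  let U : GL (Fin 2) F := Matrix.GeneralLinearGroup.mkOfDetNeZero !![1, 1; 0, 1] (by simp [Matrix.det_fin_two])
  have hU : ∀ k : ℕ, ((U ^ k : GL (Fin 2) F) : Matrix (Fin 2) (Fin 2) F) = !![1, (k : F); 0, 1] := by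
    intro k
    induction k with
    | zero => ext i j; fin_cases i <;> fin_cases j <;> simp
    | succ k ih =>
      rw [pow_succ, Units.val_mul, ih, show (U : Matrix (Fin 2) (Fin 2) F) = !![1, 1; 0, 1] from rfl]
      ext i j
      fin_cases i <;> fin_cases j <;> simp [Matrix.mul_apply, Fin.sum_univ_two, Nat.cast_succ, add_comm]
  have hUd : dl U = 1 := by
    apply Units.ext
    rw [GTwoOdd.dl_val, show (U : Matrix (Fin 2) (Fin 2) F) = !![1, 1; 0, 1] from rfl]
    simp
  let P : ↥(Pairs F) := ⟨(U, B), mem_Pairs.2 (by show dl U = dl B; rw [hUd, hB])⟩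
  refine ⟨Phi P, mem_order, Nat.dvd_antisymm ?_ ?_⟩
  · refine orderOf_dvd_of_pow_eq_one ?_
    rw [← map_pow, show P ^ (p * orderOf B) = 1 from Subtype.ext (by
      rw [SubmonoidClass.coe_pow, Prod.pow_mk]
      refine Prod.ext ?_ ?_
      · refine Units.ext ?_
        rw [hU, Nat.cast_mul, CharP.cast_eq_zero F p, zero_mul]
        exact Matrix.one_fin_two.symm
      · show B ^ (p * orderOf B) = 1
        rw [mul_comm, pow_mul, pow_orderOf_eq_one, one_pow]), map_one]
  · set k := orderOf (Phi P) with hk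
    have e : Phi (P ^ k) = 1 := by rw [map_pow, hk, pow_orderOf_eq_one]
    rw [Phi_eq_one_iff, SubmonoidClass.coe_pow, Prod.pow_mk] at e
    obtain ⟨a, ha⟩ := e
    rw [Prod.mk.injEq] at ha
    have h1 := congrArg (fun M : GL (Fin 2) F => (M : Matrix (Fin 2) (Fin 2) F)) ha.1
    simp only [hU] at h1
    have h00 := congrFun (congrFun h1 0) 0
    have h01 := congrFun (congrFun h1 0) 1
    simp [glD] at h00 h01
    have ha1 : a = 1 := Units.ext (by rw [Units.val_one]; exact h00.symm)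
    have hBk : B ^ k = 1 := by
      rw [ha.2, ha1]; ext i j; fin_cases i <;> fin_cases j <;> simp [glD]
    exact hcop.mul_dvd_of_dvd_of_dvd ((CharP.cast_eq_zero_iff F p k).1 h01) (orderOf_dvd_of_pow_eq_one hBk)

theorem p_facts (hq : 5 ≤ Fintype.card F) (hp2 : p ≠ 2) :
    p ∣ Fintype.card F ∧ 2 ∣ Fintype.card F + 1 ∧ 2 ∣ Fintype.card F - 1 ∧
      Nat.Coprime p (Fintype.card F + 1) ∧ Nat.Coprime p (Fintype.card F - 1) ∧
      Nat.Coprime p (Fintype.card F ^ 2 - 1) ∧ Nat.Coprime p (Fintype.card F ^ 2 + Fintype.card F + 1) ∧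
      Nat.Coprime p (Fintype.card F ^ 2 - Fintype.card F + 1) := by
  obtain ⟨n, -, hn⟩ := FiniteField.card F p
  have hp := (Fact.out : p.Prime)
  set q := Fintype.card F with hqdef
  have hpq : p ∣ q := by rw [hn]; exact dvd_pow_self p n.ne_zero
  have hpq2 : p ∣ q ^ 2 := dvd_pow hpq two_ne_zero
  have hodd : q % 2 = 1 := by rw [hn]; exact Nat.odd_iff.1 ((hp.odd_of_ne_two hp2).pow)
  obtain ⟨h1, h2⟩ := p_not_dvd_N (F := F) p
  have hone : ∀ {c : ℕ}, p ∣ c + 1 → p ∣ c → False := fun a b =>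
    hp.one_lt.ne' (Nat.dvd_one.1 ((Nat.dvd_add_right b).1 a))
  refine ⟨hpq, by omega, by omega, hp.coprime_iff_not_dvd.2 fun h => hone h hpq,
    hp.coprime_iff_not_dvd.2 fun h => ?_, hp.coprime_iff_not_dvd.2 fun h => ?_, hp.coprime_iff_not_dvd.2 h1,
    hp.coprime_iff_not_dvd.2 h2⟩
  · exact hone (c := q - 1) (by rwa [show q - 1 + 1 = q by omega]) h
  · have : 1 ≤ q ^ 2 := Nat.one_le_pow _ _ (by omega)
    exact hone (c := q ^ 2 - 1) (by rwa [show q ^ 2 - 1 + 1 = q ^ 2 by omega]) h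

theorem order_p_add (hq : 5 ≤ Fintype.card F) (hp2 : p ≠ 2) :
    ∃ g ∈ chevG2.group F, orderOf g = p * (Fintype.card F + 1) := by
  obtain ⟨B, hB, hBd⟩ := (exists_singer2 (F := F) p (by omega)).2
  exact hB ▸ order_p_mul p hp2 hBd (by rw [hB]; exact (p_facts (F := F) p hq hp2).2.2.2.1)

theorem order_p_sub (hq : 5 ≤ Fintype.card F) (hp2 : p ≠ 2) :
    ∃ g ∈ chevG2.group F, orderOf g = p * (Fintype.card F - 1) := by
  obtain ⟨u, hu⟩ := IsCyclic.exists_ofOrder_eq_natCard (α := Fˣ)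
  rw [Nat.card_units, Nat.card_eq_fintype_card] at hu
  have hB : orderOf (glD u u⁻¹ : GL (Fin 2) F) = Fintype.card F - 1 := by
    rw [← hu]
    have hpow : ∀ k : ℕ, (glD u u⁻¹ : GL (Fin 2) F) ^ k = glD (u ^ k) (u⁻¹ ^ k) := by
      intro k
      induction k with
      | zero => rw [pow_zero, pow_zero, pow_zero]; ext i j; fin_cases i <;> fin_cases j <;> simp [glD]
      | succ k ih =>
        rw [pow_succ, ih, pow_succ, pow_succ]
        ext i j; fin_cases i <;> fin_cases j <;> simp [glD, Matrix.mul_apply, Fin.sum_univ_two]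
    refine orderOf_eq_orderOf_iff.2 fun k => ⟨fun e => ?_, fun e => ?_⟩
    · rw [hpow] at e
      have := congrArg (fun M : GL (Fin 2) F => (M : Matrix (Fin 2) (Fin 2) F) 0 0) e
      simp [glD] at this
      exact Units.ext (by rw [Units.val_pow_eq_pow_val, Units.val_one]; exact this)
    · rw [hpow, inv_pow, e, inv_one]
      ext i j; fin_cases i <;> fin_cases j <;> simp [glD]
  exact hB ▸ order_p_mul p hp2 (by rw [dl_glD, mul_inv_cancel])
    (by rw [hB]; exact (p_facts (F := F) p hq hp2).2.2.2.2.1)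

theorem exists_prime_factor {N : ℕ} (h4 : 4 ≤ N) (ho : ¬ 2 ∣ N) (h9 : ¬ 9 ∣ N) :
    ∃ r : ℕ, r.Prime ∧ r ≠ 2 ∧ r ≠ 3 ∧ r ∣ N := by
  by_contra h
  push_neg at h
  have h3 : ∀ d : ℕ, d.Prime → d ∣ N → d = 3 := fun d hd hdN => by
    by_contra h3
    exact h d hd (fun e => ho (e ▸ hdN)) h3 hdN
  have e := Nat.eq_prime_pow_of_unique_prime_dvd (by omega) (fun {d} => h3 d)
  rcases hk : N.primeFactorsList.length with _ | _ | k <;> rw [hk] at e
  · simp at e; omega
  · simp at e; omega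
  · exact h9 (e ▸ Dvd.intro (3 ^ k) (by ring))

theorem order_cyclotomic (hq : 5 ≤ Fintype.card F) :
    (∃ g ∈ chevG2.group F, orderOf g = Fintype.card F ^ 2 + Fintype.card F + 1) ∧
      ∃ g ∈ chevG2.group F, orderOf g = Fintype.card F ^ 2 - Fintype.card F + 1 := by
  set q := Fintype.card F with hqdef
  have hsq : q * 5 ≤ q ^ 2 := by rw [pow_two]; exact Nat.mul_le_mul_left q hq
  have hev : 2 ∣ q ^ 2 - q := by
    rw [pow_two, ← Nat.mul_sub_one]
    exact (Nat.even_mul_pred_self q).two_dvd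
  have key : ∀ {N e : ℕ} (_ : e = 3 ∨ e = 6) (_ : (e = 3 → N = q ^ 2 + q + 1) ∧ (e = 6 → N = q ^ 2 - q + 1)),
      4 ≤ N → ¬ 2 ∣ N → ¬ 9 ∣ N → N ∣ q ^ 4 + q ^ 2 + 1 → ∃ g ∈ chevG2.group F, orderOf g = N := by
    intro N e he hN h4 ho h9 hdvd
    obtain ⟨r, hr, hr2, hr3, hrN⟩ := exists_prime_factor h4 ho h9
    haveI : Fact r.Prime := ⟨hr⟩
    obtain ⟨x0, hx0⟩ := exists_prime_orderOf_dvd_card' (G := ↥(chevG2.group F)) r (by
      rw [card_group, six_split (by omega)]
      exact dvd_mul_of_dvd_right (dvd_mul_of_dvd_right (hrN.trans hdvd) _) _)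
    obtain ⟨hcyc, hcard⟩ := torus_cent he hN hr hr2 hr3 hrN x0 hx0
    obtain ⟨z, hz⟩ := IsCyclic.exists_ofOrder_eq_natCard
      (α := ↥(Subgroup.centralizer ({x0} : Set ↥(chevG2.group F))))
    exact ⟨((z : ↥(chevG2.group F)) : GL chevG2.Idx F), (z : ↥(chevG2.group F)).2, by
      rw [Subgroup.orderOf_coe, Subgroup.orderOf_coe, hz, hcard]⟩
  constructor
  · exact key (e := 3) (Or.inl rfl) ⟨fun _ => rfl, fun h => absurd h (by norm_num)⟩ (by omega) (by omega)
      (not_nine_dvd q) (by rw [four_split (by omega)]; exact dvd_mul_right _ _)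
  · exact key (e := 6) (Or.inr rfl) ⟨fun h => absurd h (by norm_num), fun _ => rfl⟩ (by omega) (by omega)
      (not_nine_dvd' q) (by rw [four_split (by omega)]; exact dvd_mul_left _ _)

theorem order_p_sq (hp : p = 3 ∨ p = 5) : ∃ g ∈ chevG2.group F, orderOf g = p ^ 2 := by
  have hp2 : p ≠ 2 := by omega
  letI := ZMod.algebra F p
  set u : GL chevG2.Idx (ZMod p) := x 6 1 * x 7 1 with hu
  have huU : u ∈ chevG2.posUnipotent (ZMod p) :=
    mul_mem (S2.xG_mem_U (by rw [half_eq.1]) (by rw [half_eq.2]; norm_num) _)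
      (S2.xG_mem_U (by rw [half_eq.1]; norm_num) (by rw [half_eq.2]; norm_num) _)
  have huv : ∀ (h6 : 6 < chevG2.nroots) (h7 : 7 < chevG2.nroots),
      (u : Matrix chevG2.Idx chevG2.Idx (ZMod p)) =
        chevG2.xMat (ZMod p) ⟨6, h6⟩ 1 * chevG2.xMat (ZMod p) ⟨7, h7⟩ 1 := by
    intro h6 h7
    rw [hu, Units.val_mul]
    show (S2.ok.xG 6 (1 : ZMod p) : Matrix chevG2.Idx chevG2.Idx (ZMod p)) * S2.ok.xG 7 (1 : ZMod p) = _
    rw [S2.ok.val_xG, S2.ok.val_xG]
    exact congrArg₂ (· * ·) (dif_pos h6) (dif_pos h7)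
  have hne : ¬ u ^ p ^ 1 = 1 := by
    intro h
    rw [pow_one] at h
    have hv := congrArg Units.val h
    rw [Units.val_one] at hv
    rcases hp with rfl | rfl
    · have e : u ^ 3 = u * u * u := by rw [pow_succ, pow_two]
      rw [e, Units.val_mul, Units.val_mul, huv (by decide) (by decide), u3_eq, u3_sq, u3_three.1] at hv
      exact u3_three.2 hv
    · have e : u ^ 5 = u * u * (u * u) * u := by simp only [pow_succ, pow_zero, one_mul, mul_assoc]
      rw [e, Units.val_mul, Units.val_mul, Units.val_mul, huv (by decide) (by decide), u5_eq, u5_sq, u5_four,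
        u5_five.1] at hv
      exact u5_five.2 hv
  refine ⟨Springer.ext chevG2 (ZMod p) F u,
    Springer.ext_mem_group S2 (S2.borel_le_group (S2.B_le_of huU)), ?_⟩
  rw [orderOf_injective _ Springer.ext_injective]
  exact orderOf_eq_prime_pow hne (exp_sq hp2 huU)

/-- Every element order divides one of the listed numbers. -/
theorem order_dvd_list (hp2 : p ≠ 2) (g : ↥(chevG2.group F)) :
    orderOf g ∣ p * (Fintype.card F + 1) ∨ orderOf g ∣ p * (Fintype.card F - 1) ∨
      orderOf g ∣ Fintype.card F ^ 2 - 1 ∨ orderOf g ∣ Fintype.card F ^ 2 + Fintype.card F + 1 ∨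
      orderOf g ∣ Fintype.card F ^ 2 - Fintype.card F + 1 ∨ ((p = 3 ∨ p = 5) ∧ orderOf g ∣ p ^ 2) := by
  by_cases h2 : 2 ∣ orderOf g
  · rcases order_even p hp2 h2 with h | h | h
    · exact Or.inr (Or.inr (Or.inl h))
    · exact Or.inr (Or.inl h)
    · exact Or.inl h
  by_cases hp : p ∣ orderOf g
  · rcases order_char p hp2 h2 hp with h | h | h
    · exact Or.inr (Or.inl h)
    · exact Or.inl h
    · exact Or.inr (Or.inr (Or.inr (Or.inr (Or.inr h))))
  · rcases order_semisimple p h2 hp with h | h | h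
    · exact Or.inr (Or.inr (Or.inr (Or.inl h)))
    · exact Or.inr (Or.inr (Or.inr (Or.inr (Or.inl h))))
    · exact Or.inr (Or.inr (Or.inl h))

end Field

/-- The listed orders are incomparable under divisibility. -/
theorem antichain {p q : ℕ} (hp : p.Prime) (hq : 5 ≤ q)
    (h1 : Nat.Coprime p (q + 1)) (h2 : Nat.Coprime p (q - 1)) (h3 : Nat.Coprime p (q ^ 2 - 1))
    (h4 : Nat.Coprime p (q ^ 2 + q + 1)) (h5 : Nat.Coprime p (q ^ 2 - q + 1)) {D D' : ℕ}
    (hD : D = p * (q + 1) ∨ D = p * (q - 1) ∨ D = q ^ 2 - 1 ∨ D = q ^ 2 + q + 1 ∨ D = q ^ 2 - q + 1 ∨ D = p ^ 2)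
    (hD' : D' = p * (q + 1) ∨ D' = p * (q - 1) ∨ D' = q ^ 2 - 1 ∨ D' = q ^ 2 + q + 1 ∨ D' = q ^ 2 - q + 1 ∨
      D' = p ^ 2)
    (h : D ∣ D') : D = D' := by
  have hsq : q * 5 ≤ q ^ 2 := by rw [pow_two]; exact Nat.mul_le_mul_left q hq
  have hp1 := hp.one_lt
  -- a number prime to `p` dividing a multiple of `p`
  have cut : ∀ {a b : ℕ}, Nat.Coprime p a → a ∣ p * b → a ∣ b := fun c h => c.symm.dvd_of_dvd_mul_left h
  have cut2 : ∀ {a : ℕ}, Nat.Coprime p a → a ∣ p ^ 2 → a = 1 := fun c h =>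
    Nat.eq_one_of_dvd_coprimes ((c.pow_left 2).symm) dvd_rfl h
  have np : ∀ {a b : ℕ}, Nat.Coprime p b → p * a ∣ b → False := fun c h =>
    hp.coprime_iff_not_dvd.1 c ((dvd_mul_right _ _).trans h)
  have np2 : ∀ {b : ℕ}, Nat.Coprime p b → p ^ 2 ∣ b → False := fun c h =>
    hp.coprime_iff_not_dvd.1 c ((dvd_pow_self p two_ne_zero).trans h)
  have nle : ∀ {a b : ℕ}, 0 < b → b < a → a ∣ b → False := fun hb hlt h => by
    have := Nat.le_of_dvd hb h
    omega
  have two : ∀ {a b : ℕ}, a < b → b < 2 * a → a ∣ b → False := fun {a b} hlt hlt2 h => by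
    obtain ⟨c, rfl⟩ := h
    rcases c with _ | _ | c
    · omega
    · omega
    · have : a * 2 ≤ a * (c + 1 + 1) := Nat.mul_le_mul_left a (by omega)
      omega
  rcases hD with rfl | rfl | rfl | rfl | rfl | rfl <;> rcases hD' with rfl | rfl | rfl | rfl | rfl | rfl
  · rfl
  · exact (nle (by omega) (by omega) (Nat.dvd_of_mul_dvd_mul_left hp.pos h)).elim
  · exact (np h3 h).elim
  · exact (np h4 h).elim
  · exact (np h5 h).elim
  · rw [pow_two] at h
    have := cut2 h1 ((Nat.dvd_of_mul_dvd_mul_left hp.pos h).trans (dvd_pow_self p two_ne_zero))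
    omega
  · exact (two (a := q - 1) (b := q + 1) (by omega) (by omega) (Nat.dvd_of_mul_dvd_mul_left hp.pos h)).elim
  · rfl
  · exact (np h3 h).elim
  · exact (np h4 h).elim
  · exact (np h5 h).elim
  · rw [pow_two] at h
    have := cut2 h2 ((Nat.dvd_of_mul_dvd_mul_left hp.pos h).trans (dvd_pow_self p two_ne_zero))
    omega
  · exact (nle (by omega) (by omega) (cut h3 h)).elim
  · exact (nle (by omega) (by omega) (cut h3 h)).elim
  · rfl
  · exact (two (by omega) (by omega) h).elim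
  · exact (nle (by omega) (by omega) h).elim
  · have := cut2 h3 h; omega
  · exact (nle (by omega) (by omega) (cut h4 h)).elim
  · exact (nle (by omega) (by omega) (cut h4 h)).elim
  · exact (nle (by omega) (by omega) h).elim
  · rfl
  · exact (nle (by omega) (by omega) h).elim
  · have := cut2 h4 h; omega
  · exact (nle (by omega) (by omega) (cut h5 h)).elim
  · exact (nle (by omega) (by omega) (cut h5 h)).elim
  · exact (two (by omega) (by omega) h).elim
  · exact (two (by omega) (by omega) h).elim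
  · rfl
  · have := cut2 h5 h; omega
  · rw [pow_two] at h
    exact ((hp.coprime_iff_not_dvd.1 h1) (Nat.dvd_of_mul_dvd_mul_left hp.pos h)).elim
  · rw [pow_two] at h
    exact ((hp.coprime_iff_not_dvd.1 h2) (Nat.dvd_of_mul_dvd_mul_left hp.pos h)).elim
  · exact (np2 h3 h).elim
  · exact (np2 h4 h).elim
  · exact (np2 h5 h).elim
  · rfl

end Cfsg.Lib.GTwoOrdOdd
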