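import Cfsg.Agent.Chev.GTwoOdd.Torus
import Cfsg.Agent.Chev.Types
import Cfsg.Agent.Chev.Springer.TorusAt
import Cfsg.Agent.Chev.Springer.SylowData
import Cfsg.Agent.Chev.Springer.AllData
import Mathlib.GroupTheory.Sylow

/-!
Semisimple element orders of `G₂`, odd characteristic.
-/

set_option autoImplicit false
set_option linter.unusedSectionVars false

open Cfsg.Lie

namespace Cfsg.Lib.GTwoOrdOdd

open Cfsg.Lib.Chev Polynomial
open Cfsg.Lib.GTwoInv (S2 half_eq x i0 i1 words wv)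
open Cfsg.Lib.GTwoOdd (T exists_T T_conj T_inj x_inj cA cB)
open scoped Pointwise

variable {F : Type*} [Field F] [Fintype F]

theorem card_group :
    Nat.card ↥(chevG2.group F) =
      Fintype.card F ^ 6 * (Fintype.card F ^ 2 - 1) * (Fintype.card F ^ 6 - 1) := by
  have h := G2.struct.order_formula (F := F) okNeg_G2 G2.poincare rfl (G2.card_torus rfl)
  rw [show chevG2.nroots / 2 = 6 from rfl] at h
  simp only [List.map_cons, List.map_nil, List.prod_cons, List.prod_nil, mul_one, one_mul, ← mul_assoc] at h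
  linear_combination h

theorem six_split {q : ℕ} (hq : 1 ≤ q) :
    q ^ 6 - 1 = (q ^ 2 - 1) * (q ^ 4 + q ^ 2 + 1) := by
  obtain ⟨k, hk⟩ : ∃ k, q ^ 2 = k + 1 := ⟨q ^ 2 - 1, by have := Nat.one_le_pow 2 q hq; omega⟩
  rw [show q ^ 6 = (q ^ 2) ^ 3 by ring, show q ^ 4 = (q ^ 2) ^ 2 by ring, hk, Nat.add_sub_cancel]
  ring_nf
  omega

theorem four_split {q : ℕ} (hq : 1 ≤ q) :
    q ^ 4 + q ^ 2 + 1 = (q ^ 2 + q + 1) * (q ^ 2 - q + 1) := by
  obtain ⟨k, hk⟩ : ∃ k, q = k + 1 := ⟨q - 1, by omega⟩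
  subst hk
  rw [show (k + 1) ^ 2 - (k + 1) = k ^ 2 + k by ring_nf; omega]
  ring

theorem not_nine_dvd (q : ℕ) : ¬ 9 ∣ q ^ 2 + q + 1 := by
  intro h
  rw [← Nat.modEq_zero_iff_dvd, ← ZMod.natCast_eq_natCast_iff] at h
  push_cast at h
  generalize (q : ZMod 9) = a at h
  revert a
  decide

theorem not_nine_dvd' (q : ℕ) : ¬ 9 ∣ q ^ 2 - q + 1 := by
  intro h
  rw [← Nat.modEq_zero_iff_dvd, ← ZMod.natCast_eq_natCast_iff] at h
  push_cast [Nat.cast_sub (Nat.le_self_pow two_ne_zero q)] at h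
  generalize (q : ZMod 9) = a at h
  revert a
  decide

theorem not_two_dvd {r : ℕ} (hr : r ≠ 2) (hr3 : r ≠ 3) (hp : r.Prime) : ¬ r ∣ 12 := by
  intro h
  rw [show 12 = 2 ^ 2 * 3 by norm_num] at h
  rcases hp.dvd_mul.1 h with h | h
  · exact hr ((Nat.prime_dvd_prime_iff_eq hp Nat.prime_two).1 (hp.dvd_of_dvd_pow h))
  · exact hr3 ((Nat.prime_dvd_prime_iff_eq hp Nat.prime_three).1 h)

/-- The centraliser of an element of a primitive prime order. -/
theorem torus_cent {N e : ℕ} (he : e = 3 ∨ e = 6)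
    (hN : (e = 3 → N = Fintype.card F ^ 2 + Fintype.card F + 1) ∧
      (e = 6 → N = Fintype.card F ^ 2 - Fintype.card F + 1))
    {r : ℕ} (hr : r.Prime) (hr2 : r ≠ 2) (hr3 : r ≠ 3) (hrN : r ∣ N)
    (x0 : ↥(chevG2.group F)) (hx0 : orderOf x0 = r) :
    IsCyclic ↥(Subgroup.centralizer ({x0} : Set ↥(chevG2.group F))) ∧
      Nat.card ↥(Subgroup.centralizer ({x0} : Set ↥(chevG2.group F))) = N := by
  set q := Fintype.card F with hq
  have hq1 : 1 ≤ q := Fintype.card_pos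
  have hW : ¬ r ∣ Nat.card ↥Springer.G2_dat.S.WG := by
    rw [Springer.G2_natCard_WG]
    exact not_two_dvd hr2 hr3 hr
  have hre : ¬ r ∣ e := fun h => not_two_dvd hr2 hr3 hr (h.trans (by rcases he with rfl | rfl <;> norm_num))
  have hev : (cyclotomic e ℤ).eval (q : ℤ) = N := by
    rcases he with rfl | rfl
    · rw [cyclotomic_three, hN.1 rfl]
      simp
    · rw [cyclotomic_six, hN.2 rfl, Nat.cast_add, Nat.cast_sub (Nat.le_self_pow two_ne_zero q)]
      simp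
  have hN0 : N ≠ 0 := by rcases he with rfl | rfl <;> [rw [hN.1 rfl]; rw [hN.2 rfl]] <;> omega
  have hbad : ∀ ℓ : ℕ, ℓ.Prime → ℓ ∣ N → ¬ ℓ ∣ e ∨ ¬ ℓ ^ 2 ∣ N := by
    intro l hl hlN
    by_cases h3 : l = 3
    · subst h3
      refine Or.inr ?_
      rcases he with rfl | rfl
      · rw [hN.1 rfl]; exact not_nine_dvd q
      · rw [hN.2 rfl]; exact not_nine_dvd' q
    refine Or.inl fun hle => ?_
    rcases he with rfl | rfl
    · exact h3 ((Nat.prime_dvd_prime_iff_eq hl Nat.prime_three).1 hle)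
    · have hl2 : l = 2 := by
        rw [show 6 = 2 * 3 by norm_num] at hle
        rcases hl.dvd_mul.1 hle with h | h
        · exact (Nat.prime_dvd_prime_iff_eq hl Nat.prime_two).1 h
        · exact absurd ((Nat.prime_dvd_prime_iff_eq hl Nat.prime_three).1 h) h3
      subst hl2
      rw [hN.2 rfl] at hlN
      have he' : 2 ∣ q ^ 2 - q := by
        rw [pow_two, ← Nat.mul_sub_one]
        exact (Nat.even_mul_pred_self q).two_dvd
      omega
  exact (Springer.torus_at' Springer.G2_dat St.okTorus_G2 (by rcases he with rfl | rfl <;> norm_num)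
    (by rcases he with rfl | rfl <;> decide) (by decide) hev hN0 hbad hr hrN hre hW x0 hx0).1

theorem dvd_card_of_commute {G : Type*} [Group G] {g y : G} (h : Commute g y) :
    orderOf g ∣ Nat.card ↥(Subgroup.centralizer ({y} : Set G)) := by
  rw [← Subgroup.orderOf_mk g (Subgroup.mem_centralizer_singleton_iff.2 h.eq)]
  exact orderOf_dvd_natCard _

/-- Prime powers of a prime above three. -/
theorem order_big {r k : ℕ} (hr : r.Prime) (hr2 : r ≠ 2) (hr3 : r ≠ 3) (hrq : r ∣ Fintype.card F ^ 2 - 1)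
    {y : ↥(chevG2.group F)} (hy : orderOf y = r ^ k) : r ^ k ∣ Fintype.card F ^ 2 - 1 := by
  haveI : Fact r.Prime := ⟨hr⟩
  set q := Fintype.card F with hq
  have hq1 : 1 ≤ q := Fintype.card_pos
  have hq2 : 1 ≤ q ^ 2 := Nat.one_le_pow _ _ hq1
  have hnq : ¬ r ∣ q := by
    intro h
    have h1 : r ∣ q ^ 2 := h.trans (dvd_pow_self q two_ne_zero)
    have := Nat.dvd_sub h1 hrq
    rw [show q ^ 2 - (q ^ 2 - 1) = 1 by omega] at this
    exact hr.one_lt.ne' (Nat.dvd_one.1 this)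
  have hd2 : orderOf (q : ZMod r) ∣ 2 := by
    rw [orderOf_dvd_iff_pow_eq_one, ← sub_eq_zero, ← Nat.cast_pow]
    have := (ZMod.natCast_eq_zero_iff _ _).2 hrq
    rwa [Nat.cast_sub hq2, Nat.cast_one] at this
  have hP : IsPGroup r ↥(Subgroup.zpowers y) := IsPGroup.of_card (n := k) (by rw [Nat.card_zpowers, hy])
  obtain ⟨P, hPy⟩ := hP.exists_le_sylow
  obtain ⟨E⟩ := Springer.sylow_data Springer.G2_dat inv_G2 G2.poincare Springer.G2_natCard_WG (by decide) (by decide)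
    (by decide) (fun r hr h => h.trans (one_dvd _)) (G2.card_torus rfl) hnq
    (not_two_dvd hr2 hr3 hr) P
  set M := padicValNat r ((cyclotomic (orderOf (q : ZMod r)) ℤ).eval (q : ℤ)).natAbs with hM
  have hyM : y ^ (r ^ M) = 1 := by
    have h : E ⟨y, hPy (Subgroup.mem_zpowers y)⟩ ^ (r ^ M) = 1 := by
      funext i
      rw [Pi.pow_apply, Pi.one_apply]
      refine Multiplicative.toAdd.injective ?_
      rw [toAdd_pow, toAdd_one, nsmul_eq_mul]
      exact (congrArg (· * _) (ZMod.natCast_self (r ^ M))).trans (zero_mul _)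
    rw [← map_pow, MulEquiv.map_eq_one_iff] at h
    exact congrArg Subtype.val h
  refine (hy ▸ orderOf_dvd_of_pow_eq_one hyM).trans ?_
  refine pow_padicValNat_dvd.trans ?_
  have hsq : q ^ 2 - 1 = (q + 1) * (q - 1) := by
    rw [show (q : ℕ) ^ 2 - 1 = q ^ 2 - 1 ^ 2 by norm_num, Nat.sq_sub_sq]
  rcases (Nat.dvd_prime Nat.prime_two).1 hd2 with e | e <;> rw [e]
  · rw [cyclotomic_one, eval_sub, eval_X, eval_one,
      show ((q : ℤ) - 1) = ((q - 1 : ℕ) : ℤ) by rw [Nat.cast_sub hq1, Nat.cast_one], Int.natAbs_natCast, hsq]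
    exact dvd_mul_left _ _
  · rw [cyclotomic_two, eval_add, eval_X, eval_one,
      show ((q : ℤ) + 1) = ((q + 1 : ℕ) : ℤ) by push_cast; rfl, Int.natAbs_natCast, hsq]
    exact dvd_mul_right _ _

/-- The torsion part of the torus. -/
noncomputable def tors (K : Type*) [Field K] (N : ℕ) : Subgroup (GL chevG2.Idx K) :=
  (powMonoidHom N : Kˣ × Kˣ →* Kˣ × Kˣ).ker.map T

/-- The word of the rotation of order three. -/
def W3 : List (Fin chevG2.rank) := [i0, i1, i0, i1]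

/-- The element of order three in the normaliser of the torus. -/
noncomputable def w3 (K : Type*) [Field K] : GL chevG2.Idx K := S2.nL K W3

theorem W3_cube : (List.range 12).map (wv (W3 ++ W3 ++ W3)) = List.range 12 := by decide +kernel

theorem W3_lt : ∀ r < 12, wv W3 r < 12 := by decide +kernel

theorem W3_three : ∀ r < 12, wv W3 (wv W3 (wv W3 r)) = r := by decide +kernel

theorem W3_sum : ∀ r < 12, cA r + cA (wv W3 r) + cA (wv W3 (wv W3 r)) = 0 ∧
    cB r + cB (wv W3 r) + cB (wv W3 (wv W3 r)) = 0 := by decide +kernel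

theorem W3_six : wv W3 6 ≠ 6 := by decide +kernel

theorem w_bound : ∀ i < 2, ∀ r < 12, G2.cert.w i r < 12 := by decide +kernel

section Three

variable {K : Type*} [Field K]

theorem w3_mono : w3 K ∈ chevG2.monomialSubgroup K := S2.nL_mem_mono _

theorem w3_mem : w3 K ∈ chevG2.group K := S2.mono_le_group w3_mono

theorem nG_conj {i r : ℕ} (hi : i < 2) (hr : r < 12) :
    ∃ η : K, η * η = 1 ∧ ∀ t : K, S2.ok.nG (chevG2.simple i) (1 : K) * x r t *
      (S2.ok.nG (chevG2.simple i) (1 : K))⁻¹ = x (G2.cert.w i r) (η * t) :=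
  ⟨(G2.cert.eta i r : K), Ok.eta_sq _ _ _, fun t => S2.ok.conj_nG_xG hi (half_eq.2.symm ▸ hr) t⟩

theorem nL_conj_sign : ∀ (L : List (Fin chevG2.rank)) (r : ℕ), r < 12 →
    wv L r < 12 ∧ ∃ η : K, η * η = 1 ∧ ∀ t : K, S2.nL K L * x r t * (S2.nL K L)⁻¹ = x (wv L r) (η * t)
  | [], r, hr => by
    refine ⟨by simpa [wv, Cert.wWord] using hr, 1, one_mul 1, fun t => ?_⟩
    rw [show S2.nL K [] = 1 by simp [Struct.nL], show wv [] r = r by simp [wv, Cert.wWord]]
    simp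
  | i :: L, r, hr => by
    obtain ⟨hlt, η, hη, e⟩ := nL_conj_sign L r hr
    obtain ⟨η', hη', e'⟩ := nG_conj (K := K) (i := i.val) i.isLt hlt
    have hw : wv (i :: L) r = G2.cert.w i (wv L r) := rfl
    refine ⟨hw ▸ w_bound i i.isLt _ hlt, η' * η, by rw [mul_mul_mul_comm, hη', hη, mul_one], fun t => ?_⟩
    rw [show S2.nL K (i :: L) = S2.ok.nG (chevG2.simple i) (1 : K) * S2.nL K L by simp [Struct.nL]]
    calc S2.ok.nG (chevG2.simple i) (1 : K) * S2.nL K L * x r t *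
          (S2.ok.nG (chevG2.simple i) (1 : K) * S2.nL K L)⁻¹
        = S2.ok.nG (chevG2.simple i) (1 : K) * (S2.nL K L * x r t * (S2.nL K L)⁻¹) *
          (S2.ok.nG (chevG2.simple i) (1 : K))⁻¹ := by group
      _ = _ := by rw [e, e', mul_assoc, hw]

theorem cube_mem {d : GL chevG2.Idx K} (hd : d ∈ chevG2.diagonalSubgroup K) :
    (d * w3 K) ^ 3 ∈ chevG2.diagonalSubgroup K := by
  obtain ⟨L, hL, hiff⟩ := S2.exists_act (pow_mem (mul_mem ((le_sup_left : chevG2.diagonalSubgroup K ≤ chevG2.monomialSubgroup K) hd) w3_mono) 3 :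
    (d * w3 K) ^ 3 ∈ chevG2.monomialSubgroup K)
  refine hiff.1 ?_
  have h1 : Act S2.ok (d * w3 K) (S2.wpL W3) := by
    simpa [w3] using S2.act_mul (S2.act_diag hd) (S2.act_nL (F := K) W3)
  have h3 := S2.act_mul (S2.act_mul h1 h1) h1
  have e : (d * w3 K) ^ 3 = d * w3 K * (d * w3 K) * (d * w3 K) := by rw [pow_succ, pow_two]
  rw [e] at hL
  rw [S2.act_unique hL h3]
  refine Eq.trans ?_ (show S2.wpL (W3 ++ W3 ++ W3) = 1 from ?_)
  · simp [Struct.wpL, mul_assoc]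
  · refine Equiv.ext fun r => Fin.ext ?_
    rw [← S2.wWord_eq, Equiv.Perm.one_apply]
    exact List.map_inj_left.1 (W3_cube.trans (List.map_id _).symm) r.val
      (List.mem_range.2 (lt_of_lt_of_le r.isLt half_eq.2.le))

theorem eq_of_conj {d d' : GL chevG2.Idx K} (hd : d ∈ chevG2.diagonalSubgroup K)
    (hd' : d' ∈ chevG2.diagonalSubgroup K)
    (h : ∀ r, r = 6 ∨ r = 7 → d * x r 1 * d⁻¹ = d' * x r 1 * d'⁻¹) : d = d' := by
  obtain ⟨P, rfl⟩ := exists_T hd
  obtain ⟨Q, rfl⟩ := exists_T hd'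
  congr 1
  have h6 := h 6 (Or.inl rfl)
  have h7 := h 7 (Or.inr rfl)
  rw [T_conj (by norm_num), T_conj (by norm_num), show cA 6 = 0 by decide +kernel,
    show cB 6 = 1 by decide +kernel] at h6
  rw [T_conj (by norm_num), T_conj (by norm_num), show cA 7 = 1 by decide +kernel,
    show cB 7 = 0 by decide +kernel] at h7
  have e6 := x_inj (by norm_num) h6
  have e7 := x_inj (by norm_num) h7
  simp at e6 e7
  exact Prod.ext (Units.ext e7) (Units.ext e6)

/-- All products of a torus element and the rotation have the same cube. -/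
theorem cube_eq {d : GL chevG2.Idx K} (hd : d ∈ chevG2.diagonalSubgroup K) :
    (d * w3 K) ^ 3 = w3 K ^ 3 ∧ ∀ r < 12, ∃ ε : K, ε * ε = 1 ∧
      (d * w3 K) ^ 3 * x r 1 * ((d * w3 K) ^ 3)⁻¹ = x r ε := by
  have main : ∀ d' : GL chevG2.Idx K, d' ∈ chevG2.diagonalSubgroup K → ∀ r < 12, ∃ ε : K, ε * ε = 1 ∧
      (d' * w3 K) ^ 3 * x r 1 * ((d' * w3 K) ^ 3)⁻¹ = x r ε ∧
      ∀ e : GL chevG2.Idx K, e ∈ chevG2.diagonalSubgroup K →
        (e * w3 K) ^ 3 * x r 1 * ((e * w3 K) ^ 3)⁻¹ = x r ε := by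
    intro d' hd' r hr
    obtain ⟨h1, η1, hη1, e1⟩ := nL_conj_sign (K := K) W3 r hr
    obtain ⟨h2, η2, hη2, e2⟩ := nL_conj_sign (K := K) W3 _ h1
    obtain ⟨-, η3, hη3, e3⟩ := nL_conj_sign (K := K) W3 _ h2
    have all : ∀ e : GL chevG2.Idx K, e ∈ chevG2.diagonalSubgroup K →
        (e * w3 K) ^ 3 * x r 1 * ((e * w3 K) ^ 3)⁻¹ = x r (η3 * η2 * η1) := by
      intro e he
      obtain ⟨P, rfl⟩ := exists_T he
      have step : ∀ s < 12, ∀ η : K, (∀ t : K, S2.nL K W3 * x s t * (S2.nL K W3)⁻¹ = x (wv W3 s) (η * t)) →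
          ∀ t : K, (T P * w3 K) * x s t * (T P * w3 K)⁻¹ =
            x (wv W3 s) (((P.1 ^ cA (wv W3 s) * P.2 ^ cB (wv W3 s) : Kˣ) : K) * (η * t)) := by
        intro s hs η hη t
        calc (T P * w3 K) * x s t * (T P * w3 K)⁻¹
            = T P * (S2.nL K W3 * x s t * (S2.nL K W3)⁻¹) * (T P)⁻¹ := by rw [w3]; group
          _ = _ := by rw [hη, T_conj (W3_lt s hs)]
      have e' : (T P * w3 K) ^ 3 * x r 1 * ((T P * w3 K) ^ 3)⁻¹ = (T P * w3 K) * ((T P * w3 K) *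
          ((T P * w3 K) * x r 1 * (T P * w3 K)⁻¹) * (T P * w3 K)⁻¹) * (T P * w3 K)⁻¹ := by
        rw [pow_succ, pow_two]; group
      rw [e', step r hr η1 e1, step _ h1 η2 e2, step _ h2 η3 e3, W3_three r hr]
      congr 1
      obtain ⟨sA, sB⟩ := W3_sum r hr
      set a := P.1
      set b := P.2
      have hprod : (a ^ cA r * b ^ cB r) * ((a ^ cA (wv W3 (wv W3 r)) * b ^ cB (wv W3 (wv W3 r))) *
          (a ^ cA (wv W3 r) * b ^ cB (wv W3 r))) = 1 := by
        rw [show ∀ u v w u' v' w' : Kˣ, u * u' * (v * v' * (w * w')) = (u * v * w) * (u' * v' * w') from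
          fun u v w u' v' w' => by simp only [mul_assoc, mul_left_comm, mul_comm],
          ← _root_.zpow_add, ← _root_.zpow_add, ← _root_.zpow_add, ← _root_.zpow_add,
          show cA r + cA (wv W3 (wv W3 r)) + cA (wv W3 r) = 0 by linarith,
          show cB r + cB (wv W3 (wv W3 r)) + cB (wv W3 r) = 0 by linarith]
        simp
      have hval := congrArg (Units.val) hprod
      simp only [Units.val_mul, Units.val_one] at hval ⊢
      linear_combination (η3 * η2 * η1) * hval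
    exact ⟨η3 * η2 * η1, by linear_combination (η2 * η1) ^ 2 * hη3 + η1 ^ 2 * hη2 + hη1,
      all d' hd', all⟩
  refine ⟨?_, fun r hr => ?_⟩
  · refine eq_of_conj (cube_mem hd) (by simpa using cube_mem (K := K) (one_mem _)) fun r hr => ?_
    obtain ⟨ε, -, he, hall⟩ := main d hd r (by omega)
    rw [he]
    simpa using (hall 1 (one_mem _)).symm
  · obtain ⟨ε, h1, h2, -⟩ := main d hd r hr
    exact ⟨ε, h1, h2⟩

theorem w3_cube : w3 K ^ 3 = 1 := by
  obtain ⟨he, hε⟩ := cube_eq (K := K) (d := 1) (one_mem _)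
  rw [one_mul] at hε
  set e := w3 K ^ 3 with hedef
  have hed : e ∈ chevG2.diagonalSubgroup K := by simpa [hedef] using cube_mem (K := K) (one_mem _)
  obtain ⟨P, hP⟩ := exists_T hed
  have hcomm : w3 K * e = e * w3 K := ((Commute.refl (w3 K)).pow_right 3).eq
  set χ : ℕ → K := fun r => ((P.1 ^ cA r * P.2 ^ cB r : Kˣ) : K) with hχ
  have hχe : ∀ r < 12, e * x r 1 * e⁻¹ = x r (χ r) := fun r hr => by
    rw [hP, T_conj hr, mul_one]
  have hrot : ∀ r < 12, χ (wv W3 r) = χ r := by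
    intro r hr
    obtain ⟨hlt, η, hη, h⟩ := nL_conj_sign (K := K) W3 r hr
    have h1 : x (wv W3 r) (η * χ r) = x (wv W3 r) (χ (wv W3 r) * η) := by
      rw [← h, ← hχe r hr]
      calc S2.nL K W3 * (e * x r 1 * e⁻¹) * (S2.nL K W3)⁻¹
          = (w3 K * e) * x r 1 * (w3 K * e)⁻¹ := by rw [w3]; group
        _ = e * (S2.nL K W3 * x r 1 * (S2.nL K W3)⁻¹) * e⁻¹ := by rw [hcomm, w3]; group
        _ = _ := by rw [h, hP, T_conj hlt, mul_one]
    have h2 := x_inj hlt h1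
    have hη0 : η ≠ 0 := left_ne_zero_of_mul_eq_one hη
    exact mul_left_cancel₀ hη0 (by linear_combination -h2)
  refine eq_of_conj hed (one_mem _) fun r hr => ?_
  have hr12 : r < 12 := by omega
  obtain ⟨ε, hε1, hεe⟩ := hε r hr12
  rw [hεe, one_mul, inv_one, mul_one]
  rw [hχe r hr12] at hεe
  have hεχ : χ r = ε := x_inj hr12 hεe
  obtain ⟨sA, sB⟩ := W3_sum r hr12
  have hu : (P.1 ^ cA r * P.2 ^ cB r) * ((P.1 ^ cA (wv W3 r) * P.2 ^ cB (wv W3 r)) *
      (P.1 ^ cA (wv W3 (wv W3 r)) * P.2 ^ cB (wv W3 (wv W3 r)))) = 1 := by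
    rw [show ∀ u v w u' v' w' : Kˣ, u * u' * (v * v' * (w * w')) = (u * v * w) * (u' * v' * w') from
      fun u v w u' v' w' => by simp only [mul_assoc, mul_left_comm, mul_comm],
      ← _root_.zpow_add, ← _root_.zpow_add, ← _root_.zpow_add, ← _root_.zpow_add, sA, sB]
    simp
  have hv : χ r * (χ (wv W3 r) * χ (wv W3 (wv W3 r))) = 1 := by
    have := congrArg Units.val hu
    simpa [hχ] using this
  rw [hrot _ (W3_lt r hr12), hrot r hr12, hεχ, hε1, mul_one] at hv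
  rw [hv]

theorem diag_w3_cube {d : GL chevG2.Idx K} (hd : d ∈ chevG2.diagonalSubgroup K) : (d * w3 K) ^ 3 = 1 :=
  (cube_eq hd).1.trans w3_cube

theorem w3_not_diag : w3 K ∉ chevG2.diagonalSubgroup K := by
  intro h
  obtain ⟨L, hL, hiff⟩ := S2.exists_act (w3_mono (K := K))
  have e := S2.act_unique hL (S2.act_nL (F := K) W3)
  rw [hiff.2 h] at e
  have h6 := congrArg Fin.val (DFunLike.congr_fun e ⟨6, by rw [half_eq.2]; norm_num⟩)
  rw [← S2.wWord_eq, Equiv.Perm.one_apply] at h6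
  exact W3_six h6.symm

variable [Fintype K]

theorem mem_tors {N : ℕ} {d : GL chevG2.Idx K} :
    d ∈ tors K N ↔ d ∈ chevG2.diagonalSubgroup K ∧ d ^ N = 1 := by
  constructor
  · rintro ⟨c, hc, rfl⟩
    exact ⟨GTwoOdd.T_mem_diag c, by rw [← map_pow, show c ^ N = 1 from hc, map_one]⟩
  · rintro ⟨hd, h⟩
    obtain ⟨c, rfl⟩ := exists_T hd
    exact ⟨c, T_inj (by rw [powMonoidHom_apply, map_pow, map_one, h]), rfl⟩

theorem card_tors {m : ℕ} (hm : 3 ^ m ∣ Fintype.card K - 1) : Nat.card ↥(tors K (3 ^ m)) = 3 ^ (2 * m) := by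
  rw [tors, Nat.card_congr (Subgroup.equivMapOfInjective _ _ T_inj).symm.toEquiv]
  have e : ↥(powMonoidHom (3 ^ m) : Kˣ × Kˣ →* Kˣ × Kˣ).ker ≃
      ↥(powMonoidHom (3 ^ m) : Kˣ →* Kˣ).ker × ↥(powMonoidHom (3 ^ m) : Kˣ →* Kˣ).ker :=
    { toFun := fun c => (⟨c.1.1, congrArg Prod.fst c.2⟩, ⟨c.1.2, congrArg Prod.snd c.2⟩)
      invFun := fun c => ⟨(c.1, c.2), Prod.ext c.1.2 c.2.2⟩
      left_inv := fun c => rfl
      right_inv := fun c => rfl }
  rw [Nat.card_congr e, Nat.card_prod, IsCyclic.card_powMonoidHom_ker, Nat.card_units, Nat.card_eq_fintype_card,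
    Nat.gcd_eq_right hm, two_mul, pow_add]

theorem three_exp {m : ℕ} (hm : 1 ≤ m) (h1 : 3 ^ m ∣ Fintype.card K - 1) (h2 : ¬ 3 ^ (m + 1) ∣ Fintype.card K - 1)
    {y : GL chevG2.Idx K} (hy : y ∈ chevG2.group K) {v : ℕ} (hv : orderOf y = 3 ^ v) : y ^ (3 ^ m) = 1 := by
  classical
  haveI : Fact (Nat.Prime 3) := ⟨Nat.prime_three⟩
  set Q := Fintype.card K with hQ
  set Tm := tors K (3 ^ m) with hT
  set Z := Subgroup.zpowers (w3 K) with hZ
  have hconj : ∀ d ∈ Tm, w3 K * d * (w3 K)⁻¹ ∈ Tm := by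
    intro d hd
    rw [hT, mem_tors] at hd ⊢
    refine ⟨S2.norm_diag w3_mono hd.1, ?_⟩
    rw [conj_pow, hd.2, mul_one, mul_inv_cancel]
  have hwi : (w3 K)⁻¹ = w3 K * w3 K := inv_eq_of_mul_eq_one_right (by rw [← pow_two, ← pow_succ', w3_cube])
  have hN : Z ≤ Subgroup.normalizer (Tm : Set (GL chevG2.Idx K)) := by
    rw [hZ, Subgroup.zpowers_le]
    refine Subgroup.mem_normalizer_iff.2 fun d => ⟨hconj d, fun h => ?_⟩
    have h3 := hconj _ (hconj _ h)
    have e : d = w3 K * (w3 K * (w3 K * d * (w3 K)⁻¹) * (w3 K)⁻¹) * (w3 K)⁻¹ := by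
      calc d = w3 K * (w3 K * w3 K) * d * (w3 K * (w3 K * w3 K))⁻¹ := by
            rw [← hwi, mul_inv_cancel]; group
        _ = _ := by group
    rw [e]
    exact h3
  have hw1 : w3 K ≠ 1 := fun h => w3_not_diag (h ▸ one_mem _)
  have hwo : orderOf (w3 K) = 3 := orderOf_eq_prime w3_cube hw1
  have hdisj : Disjoint Tm Z := by
    rw [disjoint_iff, eq_bot_iff]
    rintro z ⟨hzT, hzZ⟩
    obtain ⟨j, rfl⟩ := (isOfFinOrder_of_finite (w3 K)).mem_powers_iff_mem_zpowers.2 hzZ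
    rw [Subgroup.mem_bot]
    by_contra hz
    have hj : ¬ 3 ∣ j := fun h3 => hz (orderOf_dvd_iff_pow_eq_one.1 (hwo ▸ h3))
    obtain ⟨b, hb⟩ := exists_pow_eq_self_of_coprime (x := w3 K) (n := j)
      (by rw [hwo]; exact ((Nat.prime_three.coprime_iff_not_dvd).2 hj).symm)
    have : w3 K ∈ Tm := hb ▸ pow_mem hzT b
    exact w3_not_diag (mem_tors.1 this).1
  set S := Tm ⊔ Z with hS
  have hSG : S ≤ chevG2.group K := by
    refine sup_le (fun d hd => S2.diag_le_group (mem_tors.1 hd).1) ?_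
    rw [hZ, Subgroup.zpowers_le]
    exact w3_mem
  have hset : (S : Set (GL chevG2.Idx K)) = (Tm : Set (GL chevG2.Idx K)) * (Z : Set (GL chevG2.Idx K)) := by
    rw [hS, Subgroup.coe_mul_of_right_le_normalizer_left _ _ hN]
  have hcardS : Nat.card ↥S = 3 ^ (2 * m + 1) := by
    have hinj := Subgroup.mul_injective_of_disjoint hdisj
    have : Nat.card ↥S = Nat.card (↥Tm × ↥Z) := by
      refine (Nat.card_eq_of_bijective (fun p : ↥Tm × ↥Z => (⟨p.1.1 * p.2.1,
        mul_mem (Subgroup.mem_sup_left p.1.2) (Subgroup.mem_sup_right p.2.2)⟩ : ↥S)) ⟨?_, ?_⟩).symm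
      · intro a b hab
        exact hinj (congrArg Subtype.val hab)
      · rintro ⟨z, hz⟩
        have hz' : z ∈ (S : Set (GL chevG2.Idx K)) := hz
        rw [hset] at hz'
        obtain ⟨a, ha, b, hb, rfl⟩ := Set.mem_mul.1 hz'
        exact ⟨(⟨a, ha⟩, ⟨b, hb⟩), rfl⟩
    rw [this, Nat.card_prod, hT, card_tors h1, hZ, Nat.card_zpowers, hwo, pow_succ]
  have hfact : (Nat.card ↥(chevG2.group K)).factorization 3 = 2 * m + 1 := by
    have hQ1 : 1 ≤ Q := Fintype.card_pos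
    have h3Q : 3 ∣ Q - 1 := (dvd_pow_self 3 (by omega : m ≠ 0)).trans h1
    obtain ⟨a, ha⟩ : ∃ a, Q = 3 * a + 1 := by
      obtain ⟨a, ha⟩ := h3Q
      exact ⟨a, by omega⟩
    have hQ0 : Q ^ 6 ≠ 0 := pow_ne_zero _ (by omega)
    have hQ2 : Q ^ 2 - 1 = (Q - 1) * (Q + 1) := by
      rw [show (Q : ℕ) ^ 2 - 1 = Q ^ 2 - 1 ^ 2 by norm_num, Nat.sq_sub_sq, mul_comm]
    have hQm : Q - 1 ≠ 0 := by
      intro h0
      have := Fintype.one_lt_card (α := K)
      omega
    have hv : padicValNat 3 (Q - 1) = m := by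
      refine le_antisymm ?_ ((padicValNat_dvd_iff_le hQm).1 h1)
      by_contra h0
      exact h2 ((padicValNat_dvd_iff_le hQm).2 (by omega))
    have hp0 : ¬ 3 ∣ Q + 1 := by omega
    have hc : Q ^ 4 + Q ^ 2 + 1 = 3 * (3 * (9 * a ^ 4 + 12 * a ^ 3 + 7 * a ^ 2 + 2 * a) + 1) := by
      rw [ha]; ring
    have hv2 : padicValNat 3 (Q ^ 2 - 1) = m := by
      rw [hQ2, padicValNat.mul hQm (by omega), hv, padicValNat.eq_zero_of_not_dvd hp0, add_zero]
    have hQ2' : Q ^ 2 - 1 ≠ 0 := by rw [hQ2]; exact mul_ne_zero hQm (by omega)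
    rw [card_group (F := K), Nat.factorization_def _ Nat.prime_three, six_split hQ1,
      padicValNat.mul (mul_ne_zero hQ0 hQ2') (mul_ne_zero hQ2' (by omega)),
      padicValNat.mul hQ0 hQ2', padicValNat.mul hQ2' (by omega), hv2, hc,
      padicValNat.mul (by norm_num) (by omega), padicValNat.self (by norm_num),
      padicValNat.eq_zero_of_not_dvd (n := Q ^ 6) (fun h => by
        have := Nat.prime_three.dvd_of_dvd_pow h
        omega),
      padicValNat.eq_zero_of_not_dvd (n := 3 * (9 * a ^ 4 + 12 * a ^ 3 + 7 * a ^ 2 + 2 * a) + 1) (by omega)]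
    ring
  let P : Sylow 3 ↥(chevG2.group K) := Sylow.ofCard (S.subgroupOf (chevG2.group K))
    (by rw [Nat.card_congr (Subgroup.subgroupOfEquivOfLe hSG).toEquiv, hcardS, hfact])
  have hp : IsPGroup 3 ↥(Subgroup.zpowers (⟨y, hy⟩ : ↥(chevG2.group K))) :=
    IsPGroup.of_card (n := v) (by rw [Nat.card_zpowers, ← Subgroup.orderOf_coe, hv])
  obtain ⟨P', hP'⟩ := hp.exists_le_sylow
  obtain ⟨k, hk⟩ := MulAction.exists_smul_eq ↥(chevG2.group K) P' P
  have hmem : k * ⟨y, hy⟩ * k⁻¹ ∈ (P : Subgroup ↥(chevG2.group K)) := by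
    rw [← hk, Sylow.coe_subgroup_smul]
    exact Subgroup.smul_mem_pointwise_smul _ _ _ (hP' (Subgroup.mem_zpowers _))
  set z : GL chevG2.Idx K := ((k * ⟨y, hy⟩ * k⁻¹ : ↥(chevG2.group K)) : GL chevG2.Idx K) with hz
  have hzS : z ∈ (S : Set (GL chevG2.Idx K)) := hmem
  rw [hset] at hzS
  obtain ⟨a, ha, b, hb, e⟩ := Set.mem_mul.1 hzS
  have hzpow : z ^ (3 ^ m) = 1 := by
    rw [← e]
    obtain ⟨j, rfl⟩ := (isOfFinOrder_of_finite (w3 K)).mem_powers_iff_mem_zpowers.2 hb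
    have h3m : 3 ∣ 3 ^ m := dvd_pow_self 3 (by omega)
    have had := (mem_tors.1 ha).1
    show (a * w3 K ^ j) ^ (3 ^ m) = 1
    rw [← pow_mod_orderOf (w3 K) j, hwo]
    have := Nat.mod_lt j (show 3 > 0 by norm_num)
    interval_cases hj : j % 3
    · rw [pow_zero, mul_one]
      exact (mem_tors.1 ha).2
    · rw [pow_one]
      exact orderOf_dvd_iff_pow_eq_one.1 ((orderOf_dvd_of_pow_eq_one (diag_w3_cube had)).trans h3m)
    · refine orderOf_dvd_iff_pow_eq_one.1 ((orderOf_dvd_of_pow_eq_one ?_).trans h3m)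
      have e2 : a * w3 K ^ 2 = (w3 K * a⁻¹ * (w3 K)⁻¹ * w3 K)⁻¹ := by
        rw [pow_two, ← hwi]; group
      rw [e2, inv_pow, diag_w3_cube (S2.norm_diag w3_mono (inv_mem had)), inv_one]
  have e : y = (k : GL chevG2.Idx K)⁻¹ * z * (k : GL chevG2.Idx K)⁻¹⁻¹ := by
    simp [hz, mul_assoc]
  rw [e, conj_pow, hzpow]
  group

end Three

/-- Powers of three. -/
theorem order_three {k : ℕ} {y : ↥(chevG2.group F)} (hy : orderOf y = 3 ^ k)
    (p : ℕ) [Fact p.Prime] [CharP F p] (h3 : 3 ∣ Fintype.card F ^ 2 - 1) : 3 ^ k ∣ Fintype.card F ^ 2 - 1 := by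
  classical
  haveI : Fact (Nat.Prime 3) := ⟨Nat.prime_three⟩
  let K := FiniteField.Extension F p 2
  letI : Fintype K := Fintype.ofFinite K
  set q := Fintype.card F with hq
  have hK : Fintype.card K = q ^ 2 := by
    rw [← Nat.card_eq_fintype_card, hq, ← Nat.card_eq_fintype_card]
    exact FiniteField.natCard_extension F p 2
  have hne : q ^ 2 - 1 ≠ 0 := by
    have := Fintype.one_lt_card (α := F)
    have h4 : 2 ^ 2 ≤ q ^ 2 := Nat.pow_le_pow_left (by omega) 2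
    norm_num at h4
    omega
  set m := padicValNat 3 (q ^ 2 - 1) with hm
  have hm1 : 1 ≤ m := one_le_padicValNat_of_dvd hne h3
  have h1 : 3 ^ m ∣ Fintype.card K - 1 := by rw [hK]; exact pow_padicValNat_dvd
  have h2 : ¬ 3 ^ (m + 1) ∣ Fintype.card K - 1 := by rw [hK]; exact pow_succ_padicValNat_not_dvd hne
  have hyK : Springer.ext chevG2 F K (y : GL chevG2.Idx F) ∈ chevG2.group K := Springer.ext_mem_group S2 y.2
  have hord : orderOf (Springer.ext chevG2 F K (y : GL chevG2.Idx F)) = 3 ^ k := by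
    rw [orderOf_injective _ Springer.ext_injective, Subgroup.orderOf_coe, hy]
  have h := orderOf_dvd_of_pow_eq_one (three_exp hm1 h1 h2 hyK hord)
  rw [hord] at h
  exact h.trans pow_padicValNat_dvd

/-- Primes of the semisimple part dividing `q² - 1`. -/
theorem prime_dvd_sq (p : ℕ) [Fact p.Prime] [CharP F p] {r : ℕ} (hr : r.Prime) (hrp : r ≠ p)
    (h1 : ¬ r ∣ Fintype.card F ^ 2 + Fintype.card F + 1) (h2 : ¬ r ∣ Fintype.card F ^ 2 - Fintype.card F + 1)
    (hrG : r ∣ Nat.card ↥(chevG2.group F)) : r ∣ Fintype.card F ^ 2 - 1 := by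
  set q := Fintype.card F with hq
  have hq1 : 1 ≤ q := Fintype.card_pos
  rw [card_group, ← hq, six_split hq1, four_split hq1] at hrG
  obtain ⟨a, -, ha⟩ := FiniteField.card F p
  rcases (Nat.Prime.dvd_mul hr).1 hrG with h | h
  · rcases (Nat.Prime.dvd_mul hr).1 h with h | h
    · exact absurd ((Nat.prime_dvd_prime_iff_eq hr (Fact.out : p.Prime)).1
        (hr.dvd_of_dvd_pow (ha ▸ hr.dvd_of_dvd_pow h : r ∣ p ^ (a : ℕ)))) hrp
    · exact h
  · rcases (Nat.Prime.dvd_mul hr).1 h with h | h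
    · exact h
    · rcases (Nat.Prime.dvd_mul hr).1 h with h | h
      · exact absurd h h1
      · exact absurd h h2

theorem three_dvd_sq {q : ℕ} (h : ¬ 3 ∣ q) : 3 ∣ q ^ 2 - 1 := by
  have h1 : q % 3 = 1 ∨ q % 3 = 2 := by omega
  have h2 : q ^ 2 % 3 = 1 := by rw [Nat.pow_mod]; rcases h1 with e | e <;> rw [e]
  omega

/-- Prime-power divisors of the semisimple part. -/
theorem pow_dvd_sq (p : ℕ) [Fact p.Prime] [CharP F p] {g : ↥(chevG2.group F)} (ho : ¬ 2 ∣ orderOf g)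
    (hpn : ¬ p ∣ orderOf g)
    (hN : ∀ r : ℕ, r.Prime → r ≠ 3 → r ∣ orderOf g →
      ¬ r ∣ Fintype.card F ^ 2 + Fintype.card F + 1 ∧ ¬ r ∣ Fintype.card F ^ 2 - Fintype.card F + 1) :
    orderOf g ∣ Fintype.card F ^ 2 - 1 := by
  set n := orderOf g with hn
  have hn0 : 0 < n := orderOf_pos g
  refine (Nat.dvd_iff_prime_pow_dvd_dvd _ _).2 fun r k hr hk => ?_
  rcases Nat.eq_zero_or_pos k with rfl | hk0
  · simp
  have hrn : r ∣ n := (dvd_pow_self r hk0.ne').trans hk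
  have hr2 : r ≠ 2 := fun h => ho (h ▸ hrn)
  have hrp : r ≠ p := fun h => hpn (h ▸ hrn)
  have hy : orderOf (g ^ (n / r ^ k)) = r ^ k := orderOf_pow_orderOf_div hn0.ne' hk
  by_cases hr3 : r = 3
  · subst hr3
    obtain ⟨a, -, ha⟩ := FiniteField.card F p
    refine order_three hy p (three_dvd_sq fun h => hrp ?_)
    exact (Nat.prime_dvd_prime_iff_eq hr (Fact.out : p.Prime)).1 (hr.dvd_of_dvd_pow (ha ▸ h))
  exact order_big hr hr2 hr3
    (prime_dvd_sq p hr hrp (hN r hr hr3 hrn).1 (hN r hr hr3 hrn).2 (hrn.trans (orderOf_dvd_natCard g))) hy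

/-- The order of an element of odd order prime to the characteristic. -/
theorem order_semisimple (p : ℕ) [Fact p.Prime] [CharP F p] {g : ↥(chevG2.group F)} (ho : ¬ 2 ∣ orderOf g)
    (hpn : ¬ p ∣ orderOf g) :
    orderOf g ∣ Fintype.card F ^ 2 + Fintype.card F + 1 ∨ orderOf g ∣ Fintype.card F ^ 2 - Fintype.card F + 1 ∨
      orderOf g ∣ Fintype.card F ^ 2 - 1 := by
  classical
  set q := Fintype.card F with hq
  set n := orderOf g with hn
  have hn0 : 0 < n := orderOf_pos g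
  by_cases hN : ∃ r : ℕ, r.Prime ∧ r ≠ 3 ∧ r ∣ n ∧ (r ∣ q ^ 2 + q + 1 ∨ r ∣ q ^ 2 - q + 1)
  · obtain ⟨r, hr, hr3, hrn, hrN⟩ := hN
    have hr2 : r ≠ 2 := fun h => ho (h ▸ hrn)
    have hx0 : orderOf (g ^ (n / r)) = r := orderOf_pow_orderOf_div hn0.ne' hrn
    have hc : Commute g (g ^ (n / r)) := (Commute.refl g).pow_right _
    have hdvd := dvd_card_of_commute hc
    rcases hrN with h | h
    · rw [(torus_cent (e := 3) (Or.inl rfl) ⟨fun _ => rfl, fun h => absurd h (by norm_num)⟩ hr hr2 hr3 h _ hx0).2]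
        at hdvd
      exact Or.inl hdvd
    · rw [(torus_cent (e := 6) (Or.inr rfl) ⟨fun h => absurd h (by norm_num), fun _ => rfl⟩ hr hr2 hr3 h _ hx0).2]
        at hdvd
      exact Or.inr (Or.inl hdvd)
  push_neg at hN
  refine Or.inr (Or.inr (pow_dvd_sq p ho hpn hN))

end Cfsg.Lib.GTwoOrdOdd
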