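import Cfsg.Agent.Chev.GTwoOdd.Torus
import Cfsg.Agent.Chev.Bruhat
import Cfsg.Agent.Steinberg.Chev
import Cfsg.Agent.Steinberg.Vanish
import Cfsg.Agent.PGroups.HallPetrescu
import Cfsg.Agent.PGroups.Regular

/-!
Unipotent elements of `G₂` in odd characteristic: exponents and centralisers of regular elements.
-/

set_option autoImplicit false
set_option linter.unusedSectionVars false

open Cfsg.Lie
open scoped commutatorElement

namespace Cfsg.Lib.GTwoOrdOdd

open Cfsg.Lib.Chev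
open Cfsg.Lib.GTwoOdd (T exists_T T_conj x_inj)
open Cfsg.Lib.GTwoInv (S2 half_eq x i0 i1 words wv exists_word_rep)

/-- Powers in a group of small class modulo a normal subgroup. -/
theorem exp_of_class {G : Type*} [Group G] [Finite G] {p : ℕ} [Fact p.Prime] {H N : Subgroup G} {s : Set G}
    (hH : IsPGroup p ↥H) (hs : H ≤ Subgroup.closure s) (hsH : s ⊆ H) (hsp : ∀ x ∈ s, x ^ p ∈ N)
    (hn : H ≤ Subgroup.normalizer (N : Set G)) (hcl : H.lowerCentralSeries (p - 1) ≤ N) :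
    ∀ x ∈ H, x ^ p ∈ N := by
  classical
  haveI hN : (N.subgroupOf H).Normal := Subgroup.normal_subgroupOf_of_le_normalizer hn
  set N' := N.subgroupOf H with hN'
  have hG' : IsPGroup p (↥H ⧸ N') := hH.to_quotient _
  have hcl' : (⊤ : Subgroup (↥H ⧸ N')).lowerCentralSeries (p - 1) = ⊥ := by
    rw [← Subgroup.map_top_of_surjective (QuotientGroup.mk' N') (QuotientGroup.mk'_surjective N'),
      ← Subgroup.map_lowerCentralSeries, eq_bot_iff, Subgroup.map_le_iff_le_comap,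
      MonoidHom.comap_bot, QuotientGroup.ker_mk', hN']
    intro z hz
    rw [Subgroup.mem_subgroupOf]
    refine hcl ?_
    have := Subgroup.mem_map_of_mem H.subtype hz
    rwa [Subgroup.map_lowerCentralSeries, ← MonoidHom.range_eq_map, Subgroup.range_subtype] at this
  obtain ⟨O, -, hO⟩ := Cfsg.Lib.PGroups.Regular.exists_omega
    (Cfsg.Lib.PGroups.HallPetrescu.isRegular_of_class_lt hG' hcl') 1
  have hmem : ∀ z : ↥H ⧸ N', z ∈ O ↔ z ^ p = 1 := fun z => by
    rw [← SetLike.mem_coe, hO, Set.mem_setOf_eq, pow_one]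
  intro a ha
  have hle : H ≤ (O.comap (QuotientGroup.mk' N')).map H.subtype := by
    refine hs.trans ((Subgroup.closure_le _).2 fun y hy => ⟨⟨y, hsH hy⟩, ?_, rfl⟩)
    rw [SetLike.mem_coe, Subgroup.mem_comap, hmem, ← map_pow, QuotientGroup.mk'_apply, QuotientGroup.eq_one_iff,
      hN', Subgroup.mem_subgroupOf]
    exact hsp y hy
  obtain ⟨b, hb, rfl⟩ := hle ha
  rw [SetLike.mem_coe, Subgroup.mem_comap, hmem, ← map_pow, QuotientGroup.mk'_apply, QuotientGroup.eq_one_iff,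
    hN', Subgroup.mem_subgroupOf] at hb
  exact hb

variable {F : Type*} [Field F]

/-- The positive root elements of all roots but one. -/
noncomputable def Hskip (F : Type*) [Field F] (i : ℕ) : Subgroup (GL chevG2.Idx F) :=
  Subgroup.closure {g | ∃ (r : ℕ) (t : F), 6 ≤ r ∧ r < 12 ∧ r ≠ i ∧ g = x r t}

theorem x_mem_Hskip {i r : ℕ} (h6 : 6 ≤ r) (hr : r < 12) (hi : r ≠ i) (t : F) : x r t ∈ Hskip F i :=
  Subgroup.subset_closure ⟨r, t, h6, hr, hi, rfl⟩

theorem x_mem_Ugen {k r : ℕ} (hk : k ≤ r) (hr : r < 12) (t : F) : x r t ∈ S2.Ugen F k :=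
  S2.xG_mem_Ugen hk (half_eq.2.symm ▸ hr) t

theorem Hskip_le (i : ℕ) : Hskip F i ≤ S2.Ugen F 6 := by
  refine (Subgroup.closure_le _).2 ?_
  rintro g ⟨r, t, h6, hr, -, rfl⟩
  exact x_mem_Ugen h6 hr t

theorem U_eq : chevG2.posUnipotent F = S2.Ugen F 6 := by rw [S2.posUnipotent_eq, half_eq.1]

theorem U_le_Hskip : S2.Ugen F 6 ≤ Hskip F 0 := by
  refine (Subgroup.closure_le _).2 ?_
  rintro g ⟨r, t, h6, hr, rfl⟩
  exact x_mem_Hskip h6 (half_eq.2 ▸ hr) (by omega) t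

theorem le_norm {j k : ℕ} (hj : 6 ≤ j) (hk : 6 ≤ k) :
    S2.Ugen F j ≤ Subgroup.normalizer (S2.Ugen F k : Set (GL chevG2.Idx F)) :=
  S2.le_normalizer_Ugen (half_eq.1.symm ▸ hj) (half_eq.1.symm ▸ hk)

theorem comm_x {r s k : ℕ} (h6 : 6 ≤ r) (hr : r < 12) (h6' : 6 ≤ s) (hs : s < 12) (hk6 : 6 ≤ k)
    (hk : r ≠ s → k ≤ max r s + 1) (t u : F) : ⁅x r t, x s u⁆ ∈ S2.Ugen F k := by
  rcases eq_or_ne r s with rfl | hne
  · rw [commutatorElement_eq_one_iff_mul_comm.2 (by rw [GTwoInv.x_add, GTwoInv.x_add, add_comm])]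
    exact one_mem _
  obtain ⟨w, hw, e⟩ := S2.conj_xG (F := F) (half_eq.2.symm ▸ hr) (half_eq.2.symm ▸ hs)
    (half_eq.1.symm ▸ h6) (half_eq.1.symm ▸ h6') t u
  rw [commutatorElement_def]
  show S2.ok.xG r t * S2.ok.xG s u * (S2.ok.xG r t)⁻¹ * (S2.ok.xG s u)⁻¹ ∈ _
  rw [e]
  exact (Subgroup.mem_normalizer_iff.1 (le_norm h6' hk6 (x_mem_Ugen le_rfl hs u)) _).1
    (S2.Ugen_mono (hk hne) hw)

theorem comm_skip (i : ℕ) {k : ℕ} (hk6 : 6 ≤ k)
    (hk : ∀ r s, 6 ≤ r → r < 12 → r ≠ i → 6 ≤ s → s < 12 → s ≠ i → r ≠ s → k ≤ max r s + 1) :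
    ⁅Hskip F i, Hskip F i⁆ ≤ S2.Ugen F k := by
  refine commutator_closure_le _ _ _ ((Hskip_le i).trans (le_norm le_rfl hk6))
    ((Hskip_le i).trans (le_norm le_rfl hk6)) ?_
  rintro a ⟨r, t, r6, r12, ri, rfl⟩ b ⟨s, u, s6, s12, si, rfl⟩
  exact comm_x r6 r12 s6 s12 hk6 (hk r s r6 r12 ri s6 s12 si) t u

theorem comm_Ugen {k : ℕ} (hk : 6 ≤ k) : ⁅S2.Ugen F k, S2.Ugen F 6⁆ ≤ S2.Ugen F (k + 1) := by
  refine commutator_closure_le _ _ _ (le_norm hk (by omega)) (le_norm le_rfl (by omega)) ?_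
  rintro a ⟨r, t, rk, r12, rfl⟩ b ⟨s, u, s6, s12, rfl⟩
  exact comm_x (by omega) (half_eq.2 ▸ r12) s6 (half_eq.2 ▸ s12) (by omega) (fun _ => by omega) t u

theorem lcs_le {H : Subgroup (GL chevG2.Idx F)} (hH : H ≤ S2.Ugen F 6) {k : ℕ} (hk : 6 ≤ k)
    (h1 : ⁅H, H⁆ ≤ S2.Ugen F k) : ∀ m, H.lowerCentralSeries (m + 1) ≤ S2.Ugen F (k + m)
  | 0 => by rw [Subgroup.lowerCentralSeries_succ, Subgroup.lowerCentralSeries_zero, add_zero]; exact h1
  | m + 1 => by
    rw [Subgroup.lowerCentralSeries_succ]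
    exact (Subgroup.commutator_mono (lcs_le hH hk h1 m) hH).trans (comm_Ugen (k := k + m) (by omega))

theorem lcs_U (m : ℕ) : (S2.Ugen F 6).lowerCentralSeries (m + 1) ≤ S2.Ugen F (8 + m) :=
  lcs_le le_rfl (by norm_num) ((Subgroup.commutator_mono U_le_Hskip U_le_Hskip).trans
    (comm_skip 0 (by norm_num) fun r s r6 _ _ s6 _ _ hne => by omega)) m

theorem lcs_skip {i : ℕ} (hi : i = 6 ∨ i = 7) (m : ℕ) :
    (Hskip F i).lowerCentralSeries (m + 1) ≤ S2.Ugen F (9 + m) :=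
  lcs_le (Hskip_le i) (by norm_num) (comm_skip i (by norm_num) fun r s r6 _ ri s6 _ si hne => by omega) m

variable [Fintype F] {p : ℕ} [Fact p.Prime] [CharP F p]

theorem x_pow_p (r : ℕ) (t : F) : x r t ^ p = 1 := by
  have h : ∀ n : ℕ, x r t ^ n = x r ((n : F) * t) := by
    intro n
    induction n with
    | zero => rw [pow_zero, Nat.cast_zero, zero_mul, GTwoInv.x_zero]
    | succ n ih => rw [pow_succ, ih, GTwoInv.x_add, Nat.cast_succ, add_mul, one_mul]
  rw [h, CharP.cast_eq_zero F p, zero_mul, GTwoInv.x_zero]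

theorem isPGroup_U : IsPGroup p ↥(S2.Ugen F 6) := by
  obtain ⟨n, -, hn⟩ := FiniteField.card F p
  refine IsPGroup.of_card (n := (n : ℕ) * 6) ?_
  rw [← U_eq, S2.card_posUnipotent, half_eq.1, hn, ← pow_mul]

/-- The exponent is `p` for `p ≥ 7`. -/
theorem exp_large (hp : 7 ≤ p) {u : GL chevG2.Idx F} (hu : u ∈ chevG2.posUnipotent F) : u ^ p = 1 := by
  rw [U_eq] at hu
  refine Subgroup.mem_bot.1 (exp_of_class (N := ⊥) isPGroup_U le_rfl Subgroup.subset_closure ?_ ?_ ?_ u hu)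
  · rintro a ⟨r, t, -, -, rfl⟩
    rw [Subgroup.mem_bot]
    exact x_pow_p r t
  · intro g _; rw [Subgroup.mem_normalizer_iff]; intro z; simp [conj_eq_one_iff]
  · obtain ⟨m, hm⟩ : ∃ m, p - 1 = m + 1 := ⟨p - 2, by omega⟩
    rw [hm]
    refine (lcs_U m).trans ?_
    rw [S2.Ugen_top (by rw [half_eq.2]; omega)]

/-- The exponent of the subgroup omitting a fundamental root, `p = 5`. -/
theorem exp_skip (hp : p = 5) {i : ℕ} (hi : i = 6 ∨ i = 7) {u : GL chevG2.Idx F} (hu : u ∈ Hskip F i) :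
    u ^ p = 1 := by
  refine Subgroup.mem_bot.1 (exp_of_class (N := ⊥) (isPGroup_U.to_le (Hskip_le i)) le_rfl
    Subgroup.subset_closure ?_ ?_ ?_ u hu)
  · rintro a ⟨r, t, -, -, -, rfl⟩
    rw [Subgroup.mem_bot]
    exact x_pow_p r t
  · intro g _; rw [Subgroup.mem_normalizer_iff]; intro z; simp [conj_eq_one_iff]
  · rw [show p - 1 = 3 + 1 by omega]
    refine (lcs_skip hi 3).trans ?_
    rw [S2.Ugen_top (by rw [half_eq.2])]

/-- The exponent divides `p²`. -/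
theorem exp_sq (hp2 : p ≠ 2) {u : GL chevG2.Idx F} (hu : u ∈ chevG2.posUnipotent F) : u ^ (p ^ 2) = 1 := by
  have hp3 : 3 ≤ p := by have := (Fact.out : p.Prime).two_le; omega
  rcases Nat.lt_or_ge p 4 with h4 | h4
  · obtain rfl : p = 3 := by omega
    rw [U_eq] at hu
    have h1 : u ^ 3 ∈ S2.Ugen F 9 := by
      refine exp_of_class isPGroup_U le_rfl Subgroup.subset_closure ?_ (le_norm le_rfl (by norm_num)) (lcs_U 1) u hu
      rintro a ⟨r, t, -, -, rfl⟩
      show x r t ^ 3 ∈ _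
      rw [x_pow_p]
      exact one_mem _
    have hle : S2.Ugen F 9 ≤ S2.Ugen F 6 := S2.Ugen_mono (by norm_num)
    have h2 : (u ^ 3) ^ 3 ∈ (⊥ : Subgroup (GL chevG2.Idx F)) := by
      refine exp_of_class (p := 3) (isPGroup_U.to_le hle) le_rfl Subgroup.subset_closure ?_ ?_ ?_ _ h1
      · rintro a ⟨r, t, -, -, rfl⟩
        rw [Subgroup.mem_bot]
        exact x_pow_p r t
      · intro g _; rw [Subgroup.mem_normalizer_iff]; intro z; simp [conj_eq_one_iff]
      · rw [show 3 - 1 = 1 + 1 from rfl]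
        refine (lcs_le hle (k := 11) (by norm_num) ?_ 1).trans (by rw [S2.Ugen_top (by rw [half_eq.2])])
        refine commutator_closure_le _ _ _ (le_norm (by norm_num) (by norm_num))
          (le_norm (by norm_num) (by norm_num)) ?_
        rintro a ⟨r, t, r9, r12, rfl⟩ b ⟨s, v, s9, s12, rfl⟩
        exact comm_x (by omega) (half_eq.2 ▸ r12) (by omega) (half_eq.2 ▸ s12) (by norm_num)
          (fun hne => by omega) t v
    rw [pow_two, pow_mul]
    exact Subgroup.mem_bot.1 h2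
  have hlow := S2.low_of_mem hu
  have hpow : ((u : Matrix chevG2.Idx chevG2.Idx F) - 1) ^ (p ^ 2) = 0 := by
    have h14 : chevG2.rank + chevG2.nroots ≤ p ^ 2 := by
      rw [half_eq.2, show chevG2.rank = 2 from rfl]
      nlinarith
    obtain ⟨c, hc⟩ := Nat.exists_eq_add_of_le h14
    rw [hc, pow_add, hlow.pow_eq_zero, zero_mul]
  haveI : Nonempty chevG2.Idx := ⟨Sum.inl ⟨0, by decide⟩⟩
  rw [sub_pow_char_pow_of_commute _ _ (Commute.one_right _), one_pow, sub_eq_zero] at hpow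
  exact Units.ext (by rw [Units.val_pow_eq_pow_val, hpow, Units.val_one])

theorem sylow_conj {g : GL chevG2.Idx F} (hg : g ∈ chevG2.group F) {k : ℕ} (h : orderOf g = p ^ k) :
    ∃ a ∈ chevG2.group F, a * g * a⁻¹ ∈ chevG2.posUnipotent F := by
  obtain ⟨P, U, hd⟩ := Cfsg.Lib.Steinberg.exists_chevData (F := F) p chevG2 (by simp)
  let S : Sylow p ↥(chevG2.group F) :=
    Sylow.ofCard U (Cfsg.Lib.Steinberg.factorization_eq hd.split).symm
  have hp : IsPGroup p ↥(Subgroup.zpowers (⟨g, hg⟩ : ↥(chevG2.group F))) :=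
    IsPGroup.of_card (n := k) (by rw [Nat.card_zpowers, ← Subgroup.orderOf_coe, h])
  obtain ⟨Q, hQ⟩ := hp.exists_le_sylow
  obtain ⟨a, ha⟩ := MulAction.exists_smul_eq ↥(chevG2.group F) Q S
  refine ⟨a, a.2, ?_⟩
  have hm : a * ⟨g, hg⟩ * a⁻¹ ∈ (S : Subgroup ↥(chevG2.group F)) := by
    rw [← ha, Sylow.coe_subgroup_smul]
    exact Subgroup.smul_mem_pointwise_smul _ _ _ (hQ (Subgroup.mem_zpowers _))
  rw [show (S : Subgroup ↥(chevG2.group F)) = U from rfl, hd.U_eq, Subgroup.mem_subgroupOf] at hm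
  exact hm

/-- Orders of `p`-elements. -/
theorem exp_bound (hp2 : p ≠ 2) {g : GL chevG2.Idx F} (hg : g ∈ chevG2.group F) {k : ℕ}
    (h : orderOf g = p ^ k) : k ≤ 2 ∧ (7 ≤ p → k ≤ 1) := by
  obtain ⟨a, haG, hu⟩ := sylow_conj hg h
  have ho : orderOf (a * g * a⁻¹) = p ^ k :=
    (orderOf_injective (MulAut.conj a).toMonoidHom (MulAut.conj a).injective g).trans h
  have hp1 := (Fact.out : p.Prime).one_lt
  constructor
  · have := orderOf_dvd_of_pow_eq_one (exp_sq hp2 hu)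
    rw [ho] at this
    exact (Nat.pow_dvd_pow_iff_le_right hp1).1 this
  · intro h7
    have := orderOf_dvd_of_pow_eq_one (exp_large h7 hu)
    rw [ho] at this
    exact (Nat.pow_dvd_pow_iff_le_right hp1).1 (this.trans (by rw [pow_one]))

theorem split_skip {i : ℕ} (hi : i = 6 ∨ i = 7) {u : GL chevG2.Idx F} (hu : u ∈ S2.Ugen F 6) :
    ∃ c : F, ∃ n ∈ Hskip F i, u = x i c * n := by
  obtain ⟨A, v, hv, rfl⟩ := S2.Ugen_split (by rw [half_eq.2]; norm_num) (by rw [half_eq.1]) hu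
  obtain ⟨B, w, hw, rfl⟩ := S2.Ugen_split (by rw [half_eq.2]; norm_num) (by rw [half_eq.1]; norm_num) hv
  have h8 : S2.Ugen F (7 + 1) ≤ Hskip F i := by
    refine (Subgroup.closure_le _).2 ?_
    rintro g ⟨r, t, hr, hr', rfl⟩
    exact x_mem_Hskip (by omega) (half_eq.2 ▸ hr') (by omega) t
  rcases hi with rfl | rfl
  · exact ⟨A, x 7 B * w, mul_mem (x_mem_Hskip (by norm_num) (by norm_num) (by norm_num) B) (h8 hw), rfl⟩
  · have hc : ⁅(x 7 B)⁻¹, x 6 A⁆ ∈ Hskip F 7 :=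
      h8 ((Subgroup.commutator_mono le_rfl le_rfl).trans ((lcs_U (F := F) 0).trans (by norm_num))
        (Subgroup.commutator_mem_commutator (inv_mem (x_mem_Ugen (by norm_num) (by norm_num) B))
          (x_mem_Ugen le_rfl (by norm_num) A)))
    refine ⟨B, ⁅(x 7 B)⁻¹, x 6 A⁆ * x 6 A * w,
      mul_mem (mul_mem hc (x_mem_Hskip le_rfl (by norm_num) (by norm_num) A)) (h8 hw), ?_⟩
    show x 6 A * (x 7 B * w) = _
    simp only [commutatorElement_def]
    group

theorem x_not_skip {i : ℕ} (hi : i = 6 ∨ i = 7) {c : F} (h : x i c ∈ Hskip F i) : c = 0 := by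
  rcases hi with rfl | rfl
  · refine S2.xG_inf_Ugen (k := 6) (by rw [half_eq.2]; norm_num) (by rw [half_eq.1]) ?_
    refine (Subgroup.closure_le (S2.Ugen F 7)).2 ?_ h
    rintro g ⟨r, t, h6, hr, hne, rfl⟩
    exact x_mem_Ugen (by omega) hr t
  · have hle : Hskip F 7 ≤ (S2.xHom F 6).range ⊔ S2.Ugen F 8 := by
      refine (Subgroup.closure_le _).2 ?_
      rintro g ⟨r, t, h6, hr, hne, rfl⟩
      rcases Nat.lt_or_ge r 8 with h8 | h8
      · obtain rfl : r = 6 := by omega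
        exact Subgroup.mem_sup_left ⟨Multiplicative.ofAdd t, rfl⟩
      · exact Subgroup.mem_sup_right (x_mem_Ugen h8 hr t)
    have hn : (S2.xHom F 6).range ≤ Subgroup.normalizer (S2.Ugen F 8 : Set (GL chevG2.Idx F)) := by
      rintro g ⟨a, rfl⟩
      exact le_norm le_rfl (by norm_num) (x_mem_Ugen le_rfl (by norm_num) a.toAdd)
    have hset : x 7 c ∈ (((S2.xHom F 6).range ⊔ S2.Ugen F 8 : Subgroup (GL chevG2.Idx F)) :
        Set (GL chevG2.Idx F)) := hle h
    rw [Subgroup.coe_mul_of_left_le_normalizer_right _ _ hn] at hset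
    obtain ⟨a, ⟨b, rfl⟩, v, hv, e⟩ := Set.mem_mul.1 hset
    have e' : x 6 b.toAdd * v = x 7 c := e
    have h7 : x 6 b.toAdd ∈ S2.Ugen F (6 + 1) := by
      rw [eq_mul_inv_of_mul_eq e']
      exact mul_mem (x_mem_Ugen le_rfl (by norm_num) c) (inv_mem (S2.Ugen_mono (by norm_num) hv))
    rw [S2.xG_inf_Ugen (by rw [half_eq.2]; norm_num) (by rw [half_eq.1]) h7, GTwoInv.x_zero, one_mul] at e'
    refine S2.xG_inf_Ugen (k := 7) (by rw [half_eq.2]; norm_num) (by rw [half_eq.1]; norm_num) ?_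
    show x 7 c ∈ _
    rw [← e']
    exact hv

theorem skip_norm {i : ℕ} (hi : i = 6 ∨ i = 7) {u : GL chevG2.Idx F} (hu : u ∈ S2.Ugen F 6)
    {n : GL chevG2.Idx F} (hn : n ∈ Hskip F i) : u * n * u⁻¹ ∈ Hskip F i := by
  have h8 : S2.Ugen F 8 ≤ Hskip F i := by
    refine (Subgroup.closure_le _).2 ?_
    rintro g ⟨r, t, hr, hr', rfl⟩
    exact x_mem_Hskip (by omega) (half_eq.2 ▸ hr') (by omega) t
  have hc : ⁅u, n⁆ ∈ Hskip F i :=
    h8 (lcs_U 0 (Subgroup.commutator_mem_commutator hu (Hskip_le i hn)))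
  have := mul_mem hc hn
  rwa [commutatorElement_def, inv_mul_cancel_right] at this

theorem words_pos : ∀ L ∈ words, 6 ≤ wv L 6 → 6 ≤ wv L 7 →
    (List.range 12).map (wv L) = List.range 12 := by decide +kernel

/-- The centraliser of a regular unipotent element is unipotent. -/
theorem regular_cent {u : GL chevG2.Idx F} (hu : u ∈ S2.Ugen F 6) (hreg : ∀ i, i = 6 ∨ i = 7 → u ∉ Hskip F i)
    {g : GL chevG2.Idx F} (hg : g ∈ chevG2.group F) (hc : g * u = u * g) : g ∈ S2.Ugen F 6 := by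
  obtain ⟨b, hb, n, hn, L₀, hact, v, hv, rfl⟩ := S2.normal_form okNeg_G2 hg
  obtain ⟨L, hL, eL⟩ := exists_word_rep L₀
  rw [eL] at hact hv
  have hvU : v ∈ S2.Ugen F 6 := U_eq (F := F) ▸ S2.UPsi_le _ hv
  set u' := v * u * v⁻¹ with hu'
  have hu'U : u' ∈ S2.Ugen F 6 := mul_mem (mul_mem hvU hu) (inv_mem hvU)
  have hu'n : n * u' * n⁻¹ ∈ chevG2.borelSubgroup F := by
    have : n * u' * n⁻¹ = b⁻¹ * u * b := by
      calc n * u' * n⁻¹ = b⁻¹ * (b * n * v * u) * v⁻¹ * n⁻¹ := by rw [hu']; group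
        _ = b⁻¹ * (u * (b * n * v)) * v⁻¹ * n⁻¹ := by rw [hc]
        _ = _ := by group
    rw [this]
    exact mul_mem (mul_mem (inv_mem hb) (S2.B_le_of (U_eq (F := F) ▸ hu))) hb
  obtain ⟨a, ha, c, hcN, e⟩ := S2.split_Ugen (Struct.Neg chevG2 (S2.wpL L)) (chevG2.nroots - 6) 6
    (by rw [half_eq.2]) (by rw [half_eq.1]) u' hu'U
  have hc1 : c = 1 := by
    have h1 : n * c * n⁻¹ ∈ chevG2.borelSubgroup F ⊓ chevG2.negUnipotent F := by
      refine Subgroup.mem_inf.2 ⟨?_, S2.conj_Neg hact hcN⟩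
      have : n * c * n⁻¹ = (n * a * n⁻¹)⁻¹ * (n * u' * n⁻¹) := by rw [e]; group
      rw [this]
      exact mul_mem (inv_mem (S2.B_le_of (S2.conj_Pos hact ha))) hu'n
    rw [S2.B_inf_V okNeg_G2, Subgroup.mem_bot] at h1
    exact conj_eq_one_iff.1 h1
  rw [hc1, mul_one] at e
  have hval : ∀ r : Fin chevG2.nroots, (S2.wpL L r).val = wv L r.val := fun r => (S2.wWord_eq L r).symm
  have hpos : ∀ i, i = 6 ∨ i = 7 → 6 ≤ wv L i := by
    intro i hi
    by_contra hlt
    refine hreg i hi ?_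
    have hu'i : u' ∈ Hskip F i := by
      rw [e]
      refine (Subgroup.closure_le _).2 ?_ ha
      rintro z ⟨r, t, r6, hr, rfl⟩
      rw [half_eq.1] at r6
      refine x_mem_Hskip r6 (half_eq.2 ▸ r.isLt) (fun hri => hr ?_) t
      show (S2.wpL L r).val < chevG2.nroots / 2
      rw [hval, hri, half_eq.1]
      omega
    have := skip_norm hi (inv_mem hvU) hu'i
    simpa [hu', mul_assoc] using this
  have hwp : S2.wpL L = 1 := by
    refine Equiv.ext fun r => Fin.ext ?_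
    rw [hval, Equiv.Perm.one_apply]
    exact List.map_inj_left.1 ((words_pos L hL (hpos 6 (Or.inl rfl)) (hpos 7 (Or.inr rfl))).trans
      (List.map_id _).symm) r.val (List.mem_range.2 (lt_of_lt_of_le r.isLt half_eq.2.le))
  have hv1 : v = 1 := by
    refine Subgroup.mem_bot.1 ((Subgroup.closure_le ⊥).2 ?_ hv)
    rintro z ⟨r, t, r6, hr, rfl⟩
    exact absurd hr (by rw [Struct.Neg, hwp, Equiv.Perm.one_apply]; omega)
  obtain ⟨L1, hact1, hiff⟩ := S2.exists_act hn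
  have hnd : n ∈ chevG2.diagonalSubgroup F := hiff.1 ((S2.act_unique hact1 hact).trans hwp)
  obtain ⟨u0, hu0, d, hd, rfl⟩ := S2.borel_decomp hb
  rw [U_eq] at hu0
  subst hv1
  rw [mul_one] at hc ⊢
  obtain ⟨P, hP⟩ := exists_T (mul_mem hd hnd)
  rw [mul_assoc u0 d n, hP] at hc ⊢
  have hd1 : ∀ i, i = 6 ∨ i = 7 → ((P.1 ^ GTwoOdd.cA i * P.2 ^ GTwoOdd.cB i : Fˣ) : F) = 1 := by
    intro i hi
    have hi12 : i < 12 := by rcases hi with rfl | rfl <;> norm_num
    have hi6 : 6 ≤ i := by rcases hi with rfl | rfl <;> norm_num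
    obtain ⟨k, m, hm, rfl⟩ := split_skip hi hu
    have hk0 : k ≠ 0 := fun h => hreg i hi (by rw [h, GTwoInv.x_zero, one_mul]; exact hm)
    set χ : F := ((P.1 ^ GTwoOdd.cA i * P.2 ^ GTwoOdd.cB i : Fˣ) : F) with hχ
    have hTm : T P * m * (T P)⁻¹ ∈ Hskip F i := by
      have : Hskip F i ≤ (Hskip F i).comap (MulAut.conj (T P)).toMonoidHom := by
        refine (Subgroup.closure_le _).2 ?_
        rintro z ⟨r, t, r6, r12, ri, rfl⟩
        show T P * x r t * (T P)⁻¹ ∈ Hskip F i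
        rw [T_conj r12]
        exact x_mem_Hskip r6 r12 ri _
      exact this hm
    have key : x i k * m = u0 * (x i (χ * k) * (T P * m * (T P)⁻¹)) * u0⁻¹ := by
      calc x i k * m = x i k * m * (u0 * T P) * (u0 * T P)⁻¹ := by group
        _ = (u0 * T P) * (x i k * m) * (u0 * T P)⁻¹ := by rw [hc]
        _ = u0 * ((T P * x i k * (T P)⁻¹) * (T P * m * (T P)⁻¹)) * u0⁻¹ := by group
        _ = _ := by rw [T_conj hi12]
    have hcom : ⁅u0, x i (χ * k)⁆ ∈ Hskip F i := by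
      have h1 : ⁅u0, x i (χ * k)⁆ ∈ S2.Ugen F 8 :=
        lcs_U 0 (Subgroup.commutator_mem_commutator hu0 (x_mem_Ugen hi6 hi12 _))
      refine (Subgroup.closure_le (Hskip F i)).2 ?_ h1
      rintro z ⟨r, t, hr, hr', rfl⟩
      exact x_mem_Hskip (by omega) (half_eq.2 ▸ hr') (by omega) t
    have hdiff : x i (-(χ * k) + k) ∈ Hskip F i := by
      have hrepr : x i (-(χ * k) + k) = ((x i (χ * k))⁻¹ * ⁅u0, x i (χ * k)⁆ * (x i (χ * k))⁻¹⁻¹) *
          (u0 * (T P * m * (T P)⁻¹) * u0⁻¹) * m⁻¹ := by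
        have h2 : x i (-(χ * k) + k) = (x i (χ * k))⁻¹ * (x i k * m) * m⁻¹ := by
          rw [← GTwoInv.x_add, show x i (-(χ * k)) = (x i (χ * k))⁻¹ from eq_inv_of_mul_eq_one_left
            (by rw [GTwoInv.x_add, neg_add_cancel, GTwoInv.x_zero])]
          group
        rw [h2, key, commutatorElement_def]
        group
      rw [hrepr]
      exact mul_mem (mul_mem (skip_norm hi (inv_mem (x_mem_Ugen hi6 hi12 _)) hcom) (skip_norm hi hu0 hTm))
        (inv_mem hm)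
    have h0 := x_not_skip hi hdiff
    have : (χ - 1) * k = 0 := by linear_combination -h0
    exact sub_eq_zero.1 ((mul_eq_zero.1 this).resolve_right hk0)
  have hB : P.2 = 1 := Units.ext (by
    have h6 := hd1 6 (Or.inl rfl)
    rw [show GTwoOdd.cA 6 = 0 by decide +kernel, show GTwoOdd.cB 6 = 1 by decide +kernel] at h6
    simpa using h6)
  have hA : P.1 = 1 := Units.ext (by
    have h7 := hd1 7 (Or.inr rfl)
    rw [show GTwoOdd.cA 7 = 1 by decide +kernel, show GTwoOdd.cB 7 = 0 by decide +kernel] at h7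
    simpa using h7)
  rw [show P = 1 from Prod.ext hA hB, map_one, mul_one]
  exact hu0

/-- For `p = 5` an element of order divisible by `25` is a `5`-element. -/
theorem five_only (hp : p = 5) {g : GL chevG2.Idx F} (hg : g ∈ chevG2.group F) (h : p ^ 2 ∣ orderOf g) :
    ∃ k, orderOf g = p ^ k := by
  have hp2 : p ≠ 2 := by omega
  have hfin : 0 < orderOf g := orderOf_pos g
  set w := g ^ (orderOf g / p ^ 2) with hw
  have hwo : orderOf w = p ^ 2 := orderOf_pow_orderOf_div hfin.ne' h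
  obtain ⟨a, haG, hu⟩ := sylow_conj (pow_mem hg _) hwo
  set u := a * w * a⁻¹ with hudef
  have huo : orderOf u = p ^ 2 :=
    (orderOf_injective (MulAut.conj a).toMonoidHom (MulAut.conj a).injective w).trans hwo
  have hreg : ∀ i, i = 6 ∨ i = 7 → u ∉ Hskip F i := by
    intro i hi hui
    have := orderOf_dvd_of_pow_eq_one (exp_skip hp hi hui)
    rw [huo, hp] at this
    norm_num at this
  have hX : a * g * a⁻¹ ∈ S2.Ugen F 6 := by
    refine regular_cent (U_eq (F := F) ▸ hu) hreg (mul_mem (mul_mem haG hg) (inv_mem haG)) ?_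
    rw [hudef, hw]
    calc a * g * a⁻¹ * (a * g ^ (orderOf g / p ^ 2) * a⁻¹) = a * (g * g ^ (orderOf g / p ^ 2)) * a⁻¹ := by group
      _ = a * (g ^ (orderOf g / p ^ 2) * g) * a⁻¹ := by rw [((Commute.refl g).pow_right _).eq]
      _ = _ := by group
  obtain ⟨k, hk⟩ := (IsPGroup.iff_orderOf.1 (isPGroup_U (F := F) (p := p))) ⟨_, hX⟩
  rw [← Subgroup.orderOf_coe] at hk
  exact ⟨k, ((orderOf_injective (MulAut.conj a).toMonoidHom (MulAut.conj a).injective g).symm.trans hk)⟩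

end Cfsg.Lib.GTwoOrdOdd
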