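import Cfsg.Agent.Chev.GTwoOrdersOdd.Pairs
import Cfsg.Agent.Chev.GTwoOrdersOdd.Unip
import Cfsg.Agent.Chev.GTwoOrdersOdd.Torus

/-!
Element orders divisible by the characteristic: an element of this kind commuting with a semisimple element of
prime order above three centralises an involution.
-/

set_option autoImplicit false
set_option linter.unusedSectionVars false

open Cfsg.Lie

namespace Cfsg.Lib.GTwoOrdOdd

open Cfsg.Lib.Chev
open Cfsg.Lib.GTwoInv (S2 half_eq x i0 i1 words wv wv_lt exists_word_rep)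
open Cfsg.Lib.GTwoOdd (T exists_T T_conj T_inj x_inj cA cB T_mem_diag)

/-- The determinant of two roots in the fundamental coordinates. -/
def det2 (r s : ℕ) : ℤ := cA r * cB s - cB r * cA s

theorem det2_vals : ∀ r < 12, ∀ s < 12, s ≠ r → s ≠ chevG2.neg r →
    (det2 r s).natAbs = 1 ∨ (det2 r s).natAbs = 2 ∨ (det2 r s).natAbs = 3 := by decide +kernel

theorem neg_coords : ∀ r < 12, chevG2.neg r < 12 ∧ cA (chevG2.neg r) = -cA r ∧ cB (chevG2.neg r) = -cB r := by
  decide +kernel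

theorem stab_parity : ∀ L ∈ words, ∀ r < 12, (wv L r = r ∨ wv L r = chevG2.neg r) →
    ∀ s < 12, det2 r (wv L s) % 2 = det2 r s % 2 := by decide +kernel

theorem coords_odd : ∀ r < 12, cA r % 2 ≠ 0 ∨ cB r % 2 ≠ 0 := by decide +kernel

theorem word_types : ∀ L ∈ words, (List.range 12).map (wv L) = List.range 12 ∨
    (∃ s < 12, wv L (wv L (wv L s)) = chevG2.neg s) ∨
    (∀ s < 12, cA s + cA (wv L s) + cA (wv L (wv L s)) = 0 ∧ cB s + cB (wv L s) + cB (wv L (wv L s)) = 0) := by
  decide +kernel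

variable {K : Type*} [Field K]

/-- The value of a root on a torus element. -/
def chv (P : Kˣ × Kˣ) (r : ℕ) : Kˣ := P.1 ^ cA r * P.2 ^ cB r

theorem chv_pow (P : Kˣ × Kˣ) (n : ℕ) (r : ℕ) : chv (P ^ n) r = chv P r ^ n := by
  simp only [chv, Prod.pow_fst, Prod.pow_snd]
  rw [← zpow_natCast (P.1 ^ cA r * P.2 ^ cB r), mul_zpow, ← zpow_natCast P.1, ← zpow_natCast P.2, ← zpow_mul,
    ← zpow_mul, ← zpow_mul, ← zpow_mul, mul_comm (cA r), mul_comm (cB r)]

/-- The central involution attached to a root. -/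
def zP (K : Type*) [Field K] (r : ℕ) : Kˣ × Kˣ := ((-1) ^ cB r, (-1) ^ cA r)

theorem chv_zP (r s : ℕ) : chv (zP K r) s = (-1) ^ det2 r s := by
  simp only [chv, zP, ← zpow_mul, ← zpow_add]
  have h : cB r * cA s + cA r * cB s = det2 r s + 2 * (cB r * cA s) := by simp only [det2]; ring
  rw [h, zpow_add, zpow_mul, show ((-1 : Kˣ) ^ (2 : ℤ)) = 1 by rw [zpow_ofNat]; simp, one_zpow, mul_one]

theorem zP_sq (r : ℕ) : zP K r * zP K r = 1 := by
  refine Prod.ext ?_ ?_ <;> simp only [zP, Prod.fst_mul, Prod.snd_mul, Prod.fst_one, Prod.snd_one] <;>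
    rw [← mul_zpow, neg_mul_neg, one_mul, one_zpow]

theorem T_x (P : Kˣ × Kˣ) {r : ℕ} (hr : r < 12) (t : K) :
    T P * x r t * (T P)⁻¹ = x r ((chv P r : K) * t) := T_conj hr P t

theorem U_fixed_gen {P Q : Kˣ × Kˣ} (h : ∀ s < 12, chv P s = 1 → chv Q s = 1) {u : GL chevG2.Idx K}
    (hu : u ∈ chevG2.posUnipotent K) (hc : T P * u * (T P)⁻¹ = u) : T Q * u * (T Q)⁻¹ = u := by
  rw [S2.posUnipotent_eq] at hu
  obtain ⟨t, rfl⟩ := S2.exists_pw (chevG2.nroots - chevG2.nroots / 2) (chevG2.nroots / 2) (by omega) le_rfl _ hu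
  rw [half_eq.1] at hc ⊢
  have e : ∀ R : Kˣ × Kˣ, T R * S2.pw 6 t * (T R)⁻¹ = S2.pw 6 fun r => (chv R r : K) * t r := by
    intro R
    rw [GTwoInv.pw_eq_mk, GTwoInv.pw_eq_mk]
    simp only [GTwoInv.mk]
    rw [← T_x R (show 6 < 12 by norm_num), ← T_x R (show 7 < 12 by norm_num), ← T_x R (show 8 < 12 by norm_num),
      ← T_x R (show 9 < 12 by norm_num), ← T_x R (show 10 < 12 by norm_num), ← T_x R (show 11 < 12 by norm_num)]
    group
  rw [e] at hc ⊢
  have key : ∀ r, 6 ≤ r → r < 12 → (chv Q r : K) * t r = t r := fun r r6 r12 => by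
    have h1 := S2.pw_inj 6 6 (by rw [half_eq.2]) (by rw [half_eq.1]) _ t hc r r6 (half_eq.2.symm ▸ r12)
    by_cases h0 : t r = 0
    · rw [h0, mul_zero]
    have h2 : chv P r = 1 := Units.ext (by
      rw [Units.val_one]
      exact mul_right_cancel₀ h0 (h1.trans (one_mul _).symm))
    rw [h r r12 h2, Units.val_one, one_mul]
  rw [GTwoInv.pw_eq_mk, GTwoInv.pw_eq_mk, key 6 le_rfl (by norm_num), key 7 (by norm_num) (by norm_num),
    key 8 (by norm_num) (by norm_num), key 9 (by norm_num) (by norm_num), key 10 (by norm_num) (by norm_num),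
    key 11 (by norm_num) (by norm_num)]

/-- The normal form of an element transforming one torus element into another. -/
theorem normal_parts {g : GL chevG2.Idx K} (hg : g ∈ chevG2.group K) {P P' : Kˣ × Kˣ}
    (h : g * T P = T P' * g) :
    ∃ u d n v, ∃ L ∈ words, g = u * d * n * v ∧ u ∈ chevG2.posUnipotent K ∧ d ∈ chevG2.diagonalSubgroup K ∧
      n ∈ chevG2.monomialSubgroup K ∧ Act S2.ok n (S2.wpL L) ∧ v ∈ chevG2.posUnipotent K ∧
      T P' * u * (T P')⁻¹ = u ∧ T P * v * (T P)⁻¹ = v ∧ n * T P * n⁻¹ = T P' ∧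
      ∀ r < 12, chv P' (wv L r) = chv P r := by
  obtain ⟨b, hb, n, hn, L₀, hact, v, hv, rfl⟩ := S2.normal_form okNeg_G2 hg
  obtain ⟨L, hL, eL⟩ := exists_word_rep L₀
  rw [eL] at hact hv
  obtain ⟨u, hu, d, hd, rfl⟩ := S2.borel_decomp hb
  set s := T P with hs
  set s' := T P' with hs'
  have hsd : s ∈ chevG2.diagonalSubgroup K := T_mem_diag _
  have hs'd : s' ∈ chevG2.diagonalSubgroup K := T_mem_diag _
  have hu' : s' * u * s'⁻¹ ∈ chevG2.posUnipotent K :=
    (Subgroup.mem_normalizer_iff.1 (S2.diag_normalises_U hs'd) u).1 hu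
  set e := s' * (n * s⁻¹ * n⁻¹) with he
  have hed : e ∈ chevG2.diagonalSubgroup K := mul_mem hs'd (S2.norm_diag hn (inv_mem hsd))
  have hdc : s' * d * s'⁻¹ = d := by
    obtain ⟨R, rfl⟩ := exists_T hd
    rw [hs', ← map_mul, mul_comm, map_mul, mul_inv_cancel_right]
  have hv' : s * v * s⁻¹ ∈ S2.UPsi K (Struct.Neg chevG2 (S2.wpL L)) := by
    have hle : (S2.UPsi K (Struct.Neg chevG2 (S2.wpL L))) ≤
        (S2.UPsi K (Struct.Neg chevG2 (S2.wpL L))).comap (MulAut.conj s).toMonoidHom := by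
      refine (Subgroup.closure_le _).2 ?_
      rintro y ⟨r, a, p1, p2, rfl⟩
      show s * S2.ok.xG r.val a * s⁻¹ ∈ S2.UPsi K (Struct.Neg chevG2 (S2.wpL L))
      obtain ⟨-, c, -, ec⟩ := S2.act_diag hsd r
      rw [(ec a).1]
      exact Subgroup.subset_closure ⟨r, _, p1, p2, rfl⟩
    exact hle hv
  have h1 : (s' * u * s'⁻¹) * (d * e) * n * (s * v * s⁻¹) = u * d * n * v := by
    calc (s' * u * s'⁻¹) * (d * e) * n * (s * v * s⁻¹)
        = (s' * u * s'⁻¹) * ((s' * d * s'⁻¹) * e) * n * (s * v * s⁻¹) := by rw [hdc]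
      _ = s' * (u * d * n * v) * s⁻¹ := by rw [he]; group
      _ = _ := by rw [← h, mul_inv_cancel_right]
  obtain ⟨h2, h3⟩ := S2.normal_form_unique okNeg_G2
    (mul_mem (S2.B_le_of hu') (Subgroup.mem_sup_right (mul_mem hd hed))) hb hact hv' hv h1
  have h4 : u⁻¹ * (s' * u * s'⁻¹) = d * e⁻¹ * d⁻¹ := by
    calc u⁻¹ * (s' * u * s'⁻¹) = u⁻¹ * (s' * u * s'⁻¹ * (d * e)) * (e⁻¹ * d⁻¹) := by group
      _ = _ := by rw [h2]; group
  have h5 : u⁻¹ * (s' * u * s'⁻¹) ∈ chevG2.posUnipotent K ⊓ chevG2.diagonalSubgroup K :=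
    Subgroup.mem_inf.2 ⟨mul_mem (inv_mem hu) hu', h4 ▸ mul_mem (mul_mem hd (inv_mem hed)) (inv_mem hd)⟩
  rw [S2.U_inf_H, Subgroup.mem_bot] at h5
  have he1 : e = 1 := by
    rw [h5, eq_comm, mul_inv_eq_one] at h4
    simpa using h4
  have hns : n * s * n⁻¹ = s' := by
    have e2 : n * s * n⁻¹ = e⁻¹ * s' := by rw [he]; group
    rw [e2, he1, inv_one, one_mul]
  refine ⟨u, d, n, v, L, hL, rfl, hu, hd, hn, hact, S2.UPsi_le _ hv, (inv_mul_eq_one.1 h5).symm, h3, hns, ?_⟩
  intro r hr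
  obtain ⟨-, c, hc0, ec⟩ := hact ⟨r, half_eq.2.symm ▸ hr⟩
  have hval := GTwoOdd.act_eq (L := L) hr rfl
  have e1 : ∀ a : K, n * x r a * n⁻¹ = x (wv L r) (c * a) := fun a => by
    have := (ec a).1; rw [hval] at this; exact this
  have e3 : x (wv L r) ((chv P' (wv L r) : K) * (c * 1)) = x (wv L r) (c * ((chv P r : K) * 1)) := by
    rw [← T_x P' (wv_lt L r hr), ← e1, ← e1, ← T_x P hr, ← hs', ← hns, ← hs]
    group
  have e4 := x_inj (wv_lt L r hr) e3
  refine Units.ext (mul_left_cancel₀ hc0 ?_)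
  linear_combination e4

/-- Transporters of two elements singular exactly on one root commute with the involution of that root. -/
theorem commute_z {P P' : Kˣ × Kˣ} {r0 : ℕ} (hr0 : r0 < 12) (h0 : chv P r0 = 1)
    (hS : ∀ s < 12, chv P s = 1 → s = r0 ∨ s = chevG2.neg r0)
    (hS' : ∀ s < 12, chv P' s = 1 → s = r0 ∨ s = chevG2.neg r0)
    {g : GL chevG2.Idx K} (hg : g ∈ chevG2.group K) (h : g * T P = T P' * g) :
    g * T (zP K r0) = T (zP K r0) * g := by
  obtain ⟨u, d, n, v, L, hL, rfl, hu, hd, hn, hact, hv, hu1, hv1, -, hchi⟩ := normal_parts hg h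
  have hsing : ∀ s, s = r0 ∨ s = chevG2.neg r0 → chv (zP K r0) s = 1 := by
    rintro s (rfl | rfl) <;> rw [chv_zP]
    · simp [det2, mul_comm]
    · obtain ⟨-, eA, eB⟩ := neg_coords r0 hr0
      simp [det2, eA, eB, mul_comm]
  have zu := U_fixed_gen (Q := zP K r0) (fun s hs e => hsing s (hS' s hs e)) hu hu1
  have zv := U_fixed_gen (Q := zP K r0) (fun s hs e => hsing s (hS s hs e)) hv hv1
  set z := T (zP K r0) with hz
  have zd : d * z = z * d := by
    obtain ⟨R, rfl⟩ := exists_T hd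
    rw [hz, ← map_mul, mul_comm, map_mul]
  have hw : wv L r0 = r0 ∨ wv L r0 = chevG2.neg r0 :=
    hS' _ (wv_lt L r0 hr0) ((hchi r0 hr0).trans h0)
  have hpar : ∀ s < 12, chv (zP K r0) (wv L s) = chv (zP K r0) s := by
    intro s hs
    have hp := stab_parity L hL r0 hr0 hw s hs
    rw [chv_zP, chv_zP]
    rcases Int.even_or_odd (det2 r0 s) with he | he
    · rw [he.neg_one_zpow, (Int.even_iff.2 (hp.trans (Int.even_iff.1 he))).neg_one_zpow]
    · rw [he.neg_one_zpow, (Int.odd_iff.2 (hp.trans (Int.odd_iff.1 he))).neg_one_zpow]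
  have zn : n * z * n⁻¹ = z := by
    have hzd : z ∈ chevG2.diagonalSubgroup K := T_mem_diag _
    refine eq_of_conj (S2.norm_diag hn hzd) hzd fun r hr => ?_
    have hr12 : r < 12 := by omega
    set r' := (S2.wpL L).symm ⟨r, half_eq.2.symm ▸ hr12⟩ with hr'
    have hr'12 : r'.val < 12 := lt_of_lt_of_le r'.isLt half_eq.2.le
    have hwr : wv L r'.val = r := by
      have := congrArg Fin.val ((S2.wpL L).apply_symm_apply ⟨r, half_eq.2.symm ▸ hr12⟩)
      rw [← hr', ← S2.wWord_eq L r'] at this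
      exact this
    obtain ⟨-, c, hc0, ec⟩ := hact r'
    have e1 : ∀ a : K, n * x r'.val a * n⁻¹ = x r (c * a) := fun a => by
      have := (ec a).1
      rw [← S2.wWord_eq L r'] at this
      rw [← hwr]
      exact this
    have e2 : x r (1 : K) = n * x r'.val c⁻¹ * n⁻¹ := by rw [e1, mul_inv_cancel₀ hc0]
    conv_lhs => rw [e2]
    calc n * z * n⁻¹ * (n * x r'.val c⁻¹ * n⁻¹) * (n * z * n⁻¹)⁻¹
        = n * (z * x r'.val c⁻¹ * z⁻¹) * n⁻¹ := by group
      _ = z * x r 1 * z⁻¹ := by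
        rw [hz, T_x _ hr'12, e1, T_x _ hr12, ← hpar _ hr'12, hwr, mul_one, ← mul_assoc, mul_comm c,
          mul_assoc, mul_inv_cancel₀ hc0, mul_one]
  have c1 : z * u = u * z := mul_inv_eq_iff_eq_mul.1 zu
  have c2 : z * v = v * z := mul_inv_eq_iff_eq_mul.1 zv
  have c3 : n * z = z * n := mul_inv_eq_iff_eq_mul.1 zn
  calc u * d * n * v * z = u * d * n * (v * z) := by simp only [mul_assoc]
    _ = u * d * (n * z) * v := by rw [← c2]; simp only [mul_assoc]
    _ = u * (d * z) * n * v := by rw [c3]; simp only [mul_assoc]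
    _ = (u * z) * d * n * v := by rw [zd]; simp only [mul_assoc]
    _ = z * (u * d * n * v) := by rw [← c1]; simp only [mul_assoc]

/-- No `p`-element centralises a regular torus element. -/
theorem regular_free {p : ℕ} [Fact p.Prime] [CharP K p] {r : ℕ} (hr : r.Prime) (hr3 : 3 < r) {P : Kˣ × Kˣ}
    (hP : P ^ r = 1) (hreg : ∀ s < 12, chv P s ≠ 1) {g : GL chevG2.Idx K} (hg : g ∈ chevG2.group K)
    (hgp : g ^ p = 1) (h : g * T P = T P * g) : g = 1 := by
  obtain ⟨u, d, n, v, L, hL, rfl, hu, hd, hn, hact, hv, hu1, hv1, -, hchi⟩ := normal_parts hg h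
  have triv : ∀ w ∈ chevG2.posUnipotent K, T P * w * (T P)⁻¹ = w → w = 1 := by
    intro w hw hfix
    obtain ⟨A, B, C, D, E, G, rfl⟩ := GTwoInv.exists_mk hw
    have e : T P * GTwoInv.mk A B C D E G * (T P)⁻¹ = GTwoInv.mk ((chv P 6 : K) * A) ((chv P 7 : K) * B)
        ((chv P 8 : K) * C) ((chv P 9 : K) * D) ((chv P 10 : K) * E) ((chv P 11 : K) * G) := by
      simp only [GTwoInv.mk]
      rw [← T_x P (show 6 < 12 by norm_num), ← T_x P (show 7 < 12 by norm_num), ← T_x P (show 8 < 12 by norm_num),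
        ← T_x P (show 9 < 12 by norm_num), ← T_x P (show 10 < 12 by norm_num),
        ← T_x P (show 11 < 12 by norm_num)]
      group
    rw [e] at hfix
    obtain ⟨a, b, c, d, e, f⟩ := GTwoInv.mk_inj hfix
    have z0 : ∀ {s : ℕ} {X : K}, s < 12 → (chv P s : K) * X = X → X = 0 := fun {s X} hs hX => by
      have : ((chv P s : K) - 1) * X = 0 := by rw [sub_mul, hX, one_mul, sub_self]
      exact (mul_eq_zero.1 this).resolve_left
        (sub_ne_zero.2 fun h0 => hreg s hs (Units.ext (h0.trans Units.val_one.symm)))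
    rw [z0 (by norm_num) a, z0 (by norm_num) b, z0 (by norm_num) c, z0 (by norm_num) d, z0 (by norm_num) e,
      z0 (by norm_num) f, GTwoInv.mk_zero]
  rw [triv u hu hu1, triv v hv hv1, one_mul, mul_one] at hgp ⊢
  have hchr : ∀ s, chv P s ^ r = 1 := fun s => by
    rw [← chv_pow, hP]; simp [chv]
  have hsmall : ∀ s < 12, ∀ k : ℕ, 0 < k → k ≤ 3 → chv P s ^ k = 1 → False := fun s hs k hk0 hk3 hk => by
    have hco : Nat.Coprime r k := hr.coprime_iff_not_dvd.2 fun hd => by
      have := Nat.le_of_dvd hk0 hd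
      omega
    have := (pow_gcd_eq_one (m := r) (n := k)).2 ⟨hchr s, hk⟩
    rw [hco, pow_one] at this
    exact hreg s hs this
  rcases word_types L hL with h1 | ⟨s, hs, h2⟩ | h3
  · obtain ⟨L1, hact1, hiff⟩ := S2.exists_act hn
    have hwp : S2.wpL L = 1 := by
      refine Equiv.ext fun s => Fin.ext ?_
      rw [← S2.wWord_eq, Equiv.Perm.one_apply]
      exact List.map_inj_left.1 (h1.trans (List.map_id _).symm) s.val
        (List.mem_range.2 (lt_of_lt_of_le s.isLt half_eq.2.le))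
    have hnd := hiff.1 ((S2.act_unique hact1 hact).trans hwp)
    obtain ⟨R, hR⟩ := exists_T (mul_mem hd hnd)
    rw [hR] at hgp ⊢
    rw [← map_pow, ← map_one (T (F := K))] at hgp
    have hR1 : R ^ p = 1 := T_inj hgp
    have hu1 : ∀ c : Kˣ, c ^ p = 1 → c = 1 := fun c hc => by
      refine Units.ext (sub_eq_zero.1 (pow_eq_zero_iff (Fact.out : p.Prime).ne_zero |>.1 ?_))
      rw [sub_pow_char, Units.val_one, one_pow, ← Units.val_pow_eq_pow_val, hc, Units.val_one, sub_self]
    rw [show R = 1 from Prod.ext (hu1 _ (congrArg Prod.fst hR1)) (hu1 _ (congrArg Prod.snd hR1)), map_one]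
  · exfalso
    have hlt1 := wv_lt L s hs
    have hlt2 := wv_lt L _ hlt1
    have e : chv P (chevG2.neg s) = chv P s := by rw [← h2, hchi _ hlt2, hchi _ hlt1, hchi _ hs]
    obtain ⟨-, eA, eB⟩ := neg_coords s hs
    have hinv : chv P (chevG2.neg s) = (chv P s)⁻¹ := by
      simp only [chv, eA, eB, zpow_neg, mul_inv]
    rw [hinv, inv_eq_iff_mul_eq_one, ← pow_two] at e
    exact hsmall s hs 2 (by norm_num) (by norm_num) e
  · exfalso
    obtain ⟨sA, sB⟩ := h3 6 (by norm_num)
    have hlt1 := wv_lt L 6 (by norm_num)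
    have e : chv P 6 * chv P (wv L 6) * chv P (wv L (wv L 6)) = 1 := by
      simp only [chv]
      rw [show ∀ a b c a' b' c' : Kˣ, a * a' * (b * b') * (c * c') = (a * b * c) * (a' * b' * c') from
        fun a b c a' b' c' => by simp only [mul_assoc, mul_left_comm, mul_comm],
        ← zpow_add, ← zpow_add, ← zpow_add, ← zpow_add, sA, sB]
      simp
    rw [hchi _ hlt1, hchi _ (by norm_num), ← pow_two, ← pow_succ] at e
    exact hsmall 6 (by norm_num) 3 (by norm_num) le_rfl e

variable {F : Type*} [Field F] [Fintype F] (p : ℕ) [Fact p.Prime] [CharP F p]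

theorem p_not_dvd_N : ¬ p ∣ Fintype.card F ^ 2 + Fintype.card F + 1 ∧
    ¬ p ∣ Fintype.card F ^ 2 - Fintype.card F + 1 := by
  obtain ⟨n, -, hn⟩ := FiniteField.card F p
  have hpq : p ∣ Fintype.card F := by rw [hn]; exact dvd_pow_self p n.ne_zero
  have h1 : p ∣ Fintype.card F ^ 2 := dvd_pow hpq two_ne_zero
  constructor
  · intro h
    exact (Fact.out : p.Prime).one_lt.ne' (Nat.dvd_one.1 ((Nat.dvd_add_right (dvd_add h1 hpq)).1 h))
  · intro h
    exact (Fact.out : p.Prime).one_lt.ne' (Nat.dvd_one.1 ((Nat.dvd_add_right (Nat.dvd_sub h1 hpq)).1 h))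

/-- An odd order divisible by the characteristic and by another prime above three. -/
theorem order_mixed (hp2 : p ≠ 2) {g : ↥(chevG2.group F)} (ho : ¬ 2 ∣ orderOf g) (hpn : p ∣ orderOf g)
    {r : ℕ} (hr : r.Prime) (hr3 : 3 < r) (hrp : r ≠ p) (hrn : r ∣ orderOf g) :
    orderOf g ∣ p * (Fintype.card F - 1) ∨ orderOf g ∣ p * (Fintype.card F + 1) := by
  classical
  haveI : Fact r.Prime := ⟨hr⟩
  set q := Fintype.card F with hq
  set n := orderOf g with hn
  have hn0 : 0 < n := orderOf_pos g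
  have hpne : p ≠ 0 := (Fact.out : p.Prime).ne_zero
  have hr2 : r ≠ 2 := by omega
  set y := g ^ (n / r) with hy
  have hyo : orderOf y = r := orderOf_pow_orderOf_div hn0.ne' hrn
  have hgy : Commute g y := (Commute.refl g).pow_right _
  obtain ⟨hp3, hp6⟩ := p_not_dvd_N (F := F) p
  have hN1 : ¬ r ∣ q ^ 2 + q + 1 := fun h => by
    have hdvd := dvd_card_of_commute hgy
    rw [(torus_cent (e := 3) (Or.inl rfl) ⟨fun _ => rfl, fun h => absurd h (by norm_num)⟩ hr hr2 (by omega) h _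
      hyo).2] at hdvd
    exact hp3 (hpn.trans hdvd)
  have hN2 : ¬ r ∣ q ^ 2 - q + 1 := fun h => by
    have hdvd := dvd_card_of_commute hgy
    rw [(torus_cent (e := 6) (Or.inr rfl) ⟨fun h => absurd h (by norm_num), fun _ => rfl⟩ hr hr2 (by omega) h _
      hyo).2] at hdvd
    exact hp6 (hpn.trans hdvd)
  have hrq : r ∣ q ^ 2 - 1 := prime_dvd_sq p hr hrp hN1 hN2 (hrn.trans (orderOf_dvd_natCard g))
  let K := FiniteField.Extension F p 2
  letI : Fintype K := Fintype.ofFinite K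
  haveI : CharP K p := charP_of_injective_algebraMap (algebraMap F K).injective p
  let σ : K →+* K := (FiniteField.Extension.frob F p 2).toRingEquiv.toRingHom
  have hσ : ∀ z, σ z = z ^ q := fun z => by
    rw [hq, ← Nat.card_eq_fintype_card]
    exact FiniteField.Extension.frob_apply F p 2
  have hfix : ∀ z, σ z = z → z ∈ Set.range (algebraMap F K) := by
    intro z hz
    refine (IsGalois.mem_range_algebraMap_iff_fixed z).2 fun f => ?_
    obtain ⟨i, -, rfl⟩ := FiniteField.Extension.exists_frob_pow_eq F p 2 f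
    induction i with
    | zero => rfl
    | succ i ih =>
      rw [pow_succ, AlgEquiv.mul_apply]
      rw [show (FiniteField.Extension.frob F p 2) z = z from hz, ih]
  have hσF : ∀ a, σ (algebraMap F K a) = algebraMap F K a := fun a => by
    rw [hσ, ← map_pow, FiniteField.pow_card]
  have hK : Fintype.card K = q ^ 2 := by
    rw [← Nat.card_eq_fintype_card, hq, ← Nat.card_eq_fintype_card]
    exact FiniteField.natCard_extension F p 2
  have hQ : r ∣ Fintype.card K - 1 := by rw [hK]; exact hrq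
  have hW : ¬ r ∣ Nat.card ↥Springer.G2_dat.S.WG := by
    rw [Springer.G2_natCard_WG]
    exact not_two_dvd hr2 (by omega) hr
  -- conjugate into the torus over the extension
  set X := Springer.ext chevG2 F K (y : GL chevG2.Idx F) with hX
  have hXG : X ∈ chevG2.group K := Springer.ext_mem_group S2 y.2
  have hdiag_le : chevG2.diagonalSubgroup K ≤ chevG2.group K := S2.diag_le_group
  obtain ⟨m, hm, hmW⟩ := Springer.card_group_modEq Springer.G2_dat hQ
  have hm0 : ¬ r ∣ m := fun h => hW ((ZMod.natCast_eq_zero_iff _ _).1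
    (hmW ▸ (ZMod.natCast_eq_zero_iff _ _).2 h))
  have hXo : orderOf X = r := by rw [hX, orderOf_injective _ Springer.ext_injective, Subgroup.orderOf_coe, hyo]
  obtain ⟨g0, hg0⟩ : ∃ g0 : ↥(chevG2.group K),
      ((g0 : GL chevG2.Idx K))⁻¹ * X * (g0 : GL chevG2.Idx K) ∈ chevG2.diagonalSubgroup K := by
    set Q := (chevG2.diagonalSubgroup K).subgroupOf (chevG2.group K)
    have hindex : Q.index = m := by
      have h := Subgroup.card_mul_index Q
      rw [Nat.card_congr (Subgroup.subgroupOfEquivOfLe hdiag_le).toEquiv, hm] at h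
      exact Nat.eq_of_mul_eq_mul_left Nat.card_pos h
    have hP : IsPGroup r ↥(Subgroup.zpowers (⟨X, hXG⟩ : ↥(chevG2.group K))) :=
      IsPGroup.of_card (n := 1) (by rw [Nat.card_zpowers, ← Subgroup.orderOf_coe, hXo, pow_one])
    obtain ⟨o, ho⟩ := hP.nonempty_fixed_point_of_prime_not_dvd_card (↥(chevG2.group K) ⧸ Q)
      (by rw [← Subgroup.index_eq_card, hindex]; exact hm0)
    obtain ⟨a, rfl⟩ := QuotientGroup.mk_surjective o
    refine ⟨a, ?_⟩
    have h := ho ⟨⟨X, hXG⟩, Subgroup.mem_zpowers _⟩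
    have h2 : ((⟨X, hXG⟩ * a : ↥(chevG2.group K)) : ↥(chevG2.group K) ⧸ Q) = (a : ↥(chevG2.group K) ⧸ Q) := h
    have h3 := QuotientGroup.eq.1 h2.symm
    rw [Subgroup.mem_subgroupOf] at h3
    simpa [mul_assoc] using h3
  obtain ⟨P, hP⟩ := exists_T hg0
  set a := (g0 : GL chevG2.Idx K) with ha
  have haG : a ∈ chevG2.group K := g0.2
  have hPr : P ^ r = 1 := T_inj (by
    rw [map_pow, map_one, ← hP, show a⁻¹ * X * a = a⁻¹ * X * a⁻¹⁻¹ by group, conj_pow, ← hXo,
      pow_orderOf_eq_one]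
    group)
  have hP1 : P ≠ 1 := fun h => by
    rw [h, map_one] at hP
    have : X = 1 := by
      have e : X = a * (a⁻¹ * X * a) * a⁻¹ := by group
      rw [e, hP]; group
    rw [this, orderOf_one] at hXo
    omega
  have hchr : ∀ s, chv P s ^ r = 1 := fun s => by
    rw [← chv_pow, hPr]; simp [chv]
  have toT : ∀ z : ↥(chevG2.group F), Commute z y →
      a⁻¹ * Springer.ext chevG2 F K (z : GL chevG2.Idx F) * a ∈ chevG2.group K ∧
      a⁻¹ * Springer.ext chevG2 F K (z : GL chevG2.Idx F) * a * T P =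
        T P * (a⁻¹ * Springer.ext chevG2 F K (z : GL chevG2.Idx F) * a) := by
    intro z hz
    refine ⟨mul_mem (mul_mem (inv_mem haG) (Springer.ext_mem_group S2 z.2)) haG, ?_⟩
    have hzX : Springer.ext chevG2 F K (z : GL chevG2.Idx F) * X = X * Springer.ext chevG2 F K (z : GL chevG2.Idx F) := by
      rw [hX, ← map_mul, ← map_mul, ← Subgroup.coe_mul, ← Subgroup.coe_mul, hz.eq]
    rw [← hP]
    calc a⁻¹ * Springer.ext chevG2 F K (z : GL chevG2.Idx F) * a * (a⁻¹ * X * a)
        = a⁻¹ * (Springer.ext chevG2 F K (z : GL chevG2.Idx F) * X) * a := by group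
      _ = _ := by rw [hzX]; group
  by_cases hreg : ∀ s < 12, chv P s ≠ 1
  · exfalso
    set v := g ^ (n / p) with hv
    have hvo : orderOf v = p := orderOf_pow_orderOf_div hn0.ne' hpn
    have hvp : v ^ p = 1 := orderOf_dvd_iff_pow_eq_one.1 hvo.dvd
    obtain ⟨hG, hc⟩ := toT v (hgy.pow_left _)
    have h1 := regular_free (p := p) hr hr3 hPr hreg hG (by
      rw [show a⁻¹ * Springer.ext chevG2 F K (v : GL chevG2.Idx F) * a =
        a⁻¹ * Springer.ext chevG2 F K (v : GL chevG2.Idx F) * a⁻¹⁻¹ by group, conj_pow, ← map_pow,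
        ← SubmonoidClass.coe_pow, hvp, OneMemClass.coe_one, map_one]
      group) hc
    have h2 : Springer.ext chevG2 F K (v : GL chevG2.Idx F) = Springer.ext chevG2 F K 1 := by
      rw [map_one, show Springer.ext chevG2 F K (v : GL chevG2.Idx F) =
        a * (a⁻¹ * Springer.ext chevG2 F K (v : GL chevG2.Idx F) * a) * a⁻¹ by group, h1]
      group
    have : v = 1 := Subtype.ext (Springer.ext_injective h2)
    rw [this, orderOf_one] at hvo
    exact (Fact.out : p.Prime).one_lt.ne hvo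
  push_neg at hreg
  obtain ⟨r0, hr0, h0⟩ := hreg
  have hS : ∀ s < 12, chv P s = 1 → s = r0 ∨ s = chevG2.neg r0 := by
    intro s hs hs1
    by_contra hne
    push_neg at hne
    have hd := det2_vals r0 hr0 s hs hne.1 hne.2
    have key : ∀ c : Kˣ, c ^ r = 1 → c ^ det2 r0 s = 1 → c = 1 := by
      intro c h1 h2
      set k := (det2 r0 s).natAbs with hk
      have hk3 : 0 < k ∧ k ≤ 3 := by
        omega
      have h2' : c ^ k = 1 := pow_natAbs_eq_one.2 h2
      have hco : Nat.Coprime r k := hr.coprime_iff_not_dvd.2 fun hd => by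
        have := Nat.le_of_dvd hk3.1 hd
        omega
      have := (pow_gcd_eq_one (m := r) (n := k)).2 ⟨h1, h2'⟩
      rwa [hco, pow_one] at this
    refine hP1 (Prod.ext (key _ (congrArg Prod.fst hPr) ?_) (key _ (congrArg Prod.snd hPr) ?_))
    · have e : P.1 ^ det2 r0 s = chv P r0 ^ cB s / chv P s ^ cB r0 := by
        simp only [chv, mul_zpow, ← zpow_mul, det2, mul_comm (cB r0) (cA s)]
        rw [mul_comm (cB r0) (cB s), mul_div_mul_right_eq_div, zpow_sub, div_eq_mul_inv]
      rw [e, h0, hs1, one_zpow, one_zpow, div_one]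
    · have e : P.2 ^ det2 r0 s = chv P s ^ cA r0 / chv P r0 ^ cA s := by
        simp only [chv, mul_zpow, ← zpow_mul, det2]
        rw [mul_comm (cA r0) (cA s), mul_div_mul_left_eq_div, mul_comm (cA r0) (cB s), zpow_sub, div_eq_mul_inv]
      rw [e, h0, hs1, one_zpow, one_zpow, div_one]
  have hrq' : ¬ r ∣ q := fun h => by
    obtain ⟨k, -, hk⟩ := FiniteField.card F p
    rw [hq, hk] at h
    exact hrp ((Nat.prime_dvd_prime_iff_eq hr (Fact.out : p.Prime)).1 (hr.dvd_of_dvd_pow h))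
  have hSq : ∀ s < 12, chv (P ^ q) s = 1 → s = r0 ∨ s = chevG2.neg r0 := by
    intro s hs hs1
    refine hS s hs ?_
    rw [chv_pow] at hs1
    have := (pow_gcd_eq_one (m := r) (n := q)).2 ⟨hchr s, hs1⟩
    rwa [(hr.coprime_iff_not_dvd).2 hrq', pow_one] at this
  have hσT : ∀ R : Kˣ × Kˣ, phiG σ chevG2 (T R) = T (R ^ q) := fun R => by
    rw [map_pow, GTwoOdd.T_apply, Springer.phiG_tG, ← map_pow]
    exact congrArg _ (funext fun i => Units.ext (by simp [hσ]))
  set h := a⁻¹ * phiG σ chevG2 a with hh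
  have hhG : h ∈ chevG2.group K := mul_mem (inv_mem haG) (phiG_group σ S2 haG)
  have hσext : ∀ z : GL chevG2.Idx F, phiG σ chevG2 (Springer.ext chevG2 F K z) = Springer.ext chevG2 F K z :=
    fun z => (phiG_eq_self σ).2 fun i j => hσF _
  have hXe : X = a * T P * a⁻¹ := by rw [← hP]; group
  have hht : h * T (P ^ q) = T P * h := by
    have h1 : phiG σ chevG2 a * T (P ^ q) * (phiG σ chevG2 a)⁻¹ = a * T P * a⁻¹ := by
      rw [← hσT, ← map_inv, ← map_mul, ← map_mul, ← hXe, hX, hσext]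
    calc h * T (P ^ q) = a⁻¹ * (phiG σ chevG2 a * T (P ^ q) * (phiG σ chevG2 a)⁻¹) * phiG σ chevG2 a := by
          rw [hh]; group
      _ = T P * h := by rw [h1, hh]; group
  have h0q : chv (P ^ q) r0 = 1 := by rw [chv_pow, h0, one_pow]
  set z := T (zP K r0) with hz
  have hhz := commute_z hr0 h0q hSq hS hhG hht
  have hoddq : Odd q := by
    obtain ⟨k, -, hk⟩ := FiniteField.card F p
    rw [hq, hk]
    exact ((Fact.out : p.Prime).odd_of_ne_two hp2).pow
  have hσz : phiG σ chevG2 z = z := by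
    rw [hz, hσT]
    obtain ⟨c, hc⟩ := hoddq
    rw [hc, pow_succ, pow_mul, show zP K r0 ^ 2 = 1 by rw [pow_two, zP_sq], one_pow, one_mul]
  set z' := a * z * a⁻¹ with hz'
  have hz'G : z' ∈ chevG2.group K := mul_mem (mul_mem haG (hdiag_le (T_mem_diag _))) (inv_mem haG)
  have hσz' : phiG σ chevG2 z' = z' := by
    rw [hz', map_mul, map_mul, map_inv, hσz, show phiG σ chevG2 a = a * h by rw [hh]; group]
    calc a * h * z * (a * h)⁻¹ = a * (h * z * h⁻¹) * a⁻¹ := by group
      _ = _ := by rw [hhz, mul_inv_cancel_right]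
  obtain ⟨z0, hz0, hz0e⟩ := Springer.fixed_mem Springer.G2_dat hσF hfix
    (St.torus_ker_trivial Springer.G2_dat.S.ok St.okTorus_G2) hz'G hσz'
  obtain ⟨hgG, hgc⟩ := toT g hgy
  have hgz := commute_z hr0 h0 hS hS hgG hgc
  have hcomm : Commute g (⟨z0, hz0⟩ : ↥(chevG2.group F)) := by
    refine Subtype.ext (Springer.ext_injective (K := K) ?_)
    show Springer.ext chevG2 F K ((g : GL chevG2.Idx F) * z0) = Springer.ext chevG2 F K (z0 * (g : GL chevG2.Idx F))
    rw [map_mul, map_mul, hz0e, hz']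
    calc Springer.ext chevG2 F K (g : GL chevG2.Idx F) * (a * z * a⁻¹)
        = a * ((a⁻¹ * Springer.ext chevG2 F K (g : GL chevG2.Idx F) * a) * z) * a⁻¹ := by group
      _ = a * (z * (a⁻¹ * Springer.ext chevG2 F K (g : GL chevG2.Idx F) * a)) * a⁻¹ := by rw [hgz]
      _ = _ := by group
  have hz2 : orderOf (⟨z0, hz0⟩ : ↥(chevG2.group F)) = 2 := by
    rw [← Subgroup.orderOf_coe]
    show orderOf z0 = 2
    rw [← orderOf_injective _ (Springer.ext_injective (D := chevG2) (F := F) (K := K)) z0, hz0e, hz',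
      show orderOf (a * z * a⁻¹) = orderOf z from
        orderOf_injective (MulAut.conj a).toMonoidHom (MulAut.conj a).injective z]
    refine orderOf_eq_prime (by rw [hz, ← map_pow, pow_two, zP_sq, map_one]) fun e => ?_
    rw [hz, ← map_one (T (F := K))] at e
    have e' := T_inj e
    have hne : (-1 : Kˣ) ≠ 1 := fun h => by
      have h' : (-1 : K) = 1 := by simpa using congrArg Units.val h
      exact two_ne_zero' (F := F) p hp2 ((algebraMap F K).injective (by rw [map_ofNat, map_zero]; linear_combination -h'))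
    rcases coords_odd r0 hr0 with h1 | h1
    · have := congrArg Prod.snd e'
      simp only [zP, Prod.snd_one] at this
      rw [(Int.odd_iff.2 (by omega : cA r0 % 2 = 1)).neg_one_zpow] at this
      exact hne this
    · have := congrArg Prod.fst e'
      simp only [zP, Prod.fst_one] at this
      rw [(Int.odd_iff.2 (by omega : cB r0 % 2 = 1)).neg_one_zpow] at this
      exact hne this
  have hord : orderOf (g * ⟨z0, hz0⟩) = n * 2 := by
    rw [hcomm.orderOf_mul_eq_mul_orderOf_of_coprime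
      (by rw [hz2]; exact (Nat.prime_two.coprime_iff_not_dvd.2 ho).symm), hz2]
  rcases order_even p hp2 (g := g * ⟨z0, hz0⟩) (by rw [hord]; exact dvd_mul_left _ _) with h | h | h <;>
    rw [hord] at h
  · exfalso
    have h1 : p ∣ q ^ 2 - 1 := hpn.trans ((dvd_mul_right n 2).trans h)
    obtain ⟨k, -, hk⟩ := FiniteField.card F p
    have h2 : p ∣ q ^ 2 := dvd_pow (by rw [hq, hk]; exact dvd_pow_self p k.ne_zero) two_ne_zero
    have h3 := Nat.dvd_sub h2 h1
    rw [show q ^ 2 - (q ^ 2 - 1) = 1 by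
      have := Nat.one_le_pow 2 q Fintype.card_pos
      omega] at h3
    exact (Fact.out : p.Prime).one_lt.ne' (Nat.dvd_one.1 h3)
  · exact Or.inl ((dvd_mul_right n 2).trans h)
  · exact Or.inr ((dvd_mul_right n 2).trans h)

/-- The order of an element of odd order divisible by the characteristic. -/
theorem order_char (hp2 : p ≠ 2) {g : ↥(chevG2.group F)} (ho : ¬ 2 ∣ orderOf g) (hpn : p ∣ orderOf g) :
    orderOf g ∣ p * (Fintype.card F - 1) ∨ orderOf g ∣ p * (Fintype.card F + 1) ∨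
      ((p = 3 ∨ p = 5) ∧ orderOf g ∣ p ^ 2) := by
  classical
  set q := Fintype.card F with hq
  set n := orderOf g with hn
  have hn0 : 0 < n := orderOf_pos g
  have hp := (Fact.out : p.Prime)
  by_cases hr : ∃ r : ℕ, r.Prime ∧ 3 < r ∧ r ≠ p ∧ r ∣ n
  · obtain ⟨r, hr, hr3, hrp, hrn⟩ := hr
    exact (order_mixed p hp2 ho hpn hr hr3 hrp hrn).imp_right Or.inl
  push_neg at hr
  obtain ⟨k, m, hpm, hnm⟩ := Nat.exists_eq_pow_mul_and_not_dvd hn0.ne' p hp.ne_one
  have hk0 : 0 < k := Nat.pos_of_ne_zero fun h => hpm (by rw [hnm, h, pow_zero, one_mul] at hpn; exact hpn)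
  have hm0 : m ≠ 0 := fun h => hpm (h ▸ dvd_zero p)
  have hm3 : ∀ d : ℕ, d.Prime → d ∣ m → d = 3 := by
    intro d hd hdm
    have hdn : d ∣ n := hnm ▸ hdm.trans (dvd_mul_left _ _)
    have hd2 : d ≠ 2 := fun h => ho (h ▸ hdn)
    by_contra h3
    have hdp : d ≠ p := fun h => hpm (h ▸ hdm)
    exact hr d hd (by have := hd.two_le; omega) hdp hdn
  have e := Nat.eq_prime_pow_of_unique_prime_dvd hm0 (fun {d} => hm3 d)
  set j := m.primeFactorsList.length
  have hu : orderOf (g ^ m) = p ^ k := by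
    rw [orderOf_pow_of_dvd hm0 (by rw [← hn, hnm]; exact dvd_mul_left _ _), ← hn, hnm, Nat.mul_div_cancel _ (Nat.pos_of_ne_zero hm0)]
  obtain ⟨hk2, hk7⟩ := exp_bound hp2 (g := ((g ^ m : ↥(chevG2.group F)) : GL chevG2.Idx F)) (g ^ m).2
    (k := k) (by rw [Subgroup.orderOf_coe, hu])
  have hodd : Odd q := by
    obtain ⟨a, -, ha⟩ := FiniteField.card F p
    rw [hq, ha]
    exact (hp.odd_of_ne_two hp2).pow
  rcases Nat.eq_zero_or_pos j with hj | hj
  · rw [hj, pow_zero] at e
    rw [e, mul_one] at hnm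
    rcases Nat.lt_or_ge k 2 with h1 | h1
    · obtain rfl : k = 1 := by omega
      exact Or.inl (by rw [hnm, pow_one]; exact dvd_mul_right _ _)
    · obtain rfl : k = 2 := by omega
      refine Or.inr (Or.inr ⟨?_, by rw [hnm]⟩)
      have : p < 7 := by
        by_contra h7
        have := hk7 (by omega)
        omega
      have := hp.two_le
      interval_cases p <;> first | omega | (norm_num at hp)
  · have h3m : 3 ∣ m := e ▸ dvd_pow_self 3 hj.ne'
    have hp3 : p ≠ 3 := fun h => hpm (h ▸ h3m)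
    have hp5 : 5 ≤ p := by
      have := hp.two_le
      by_contra h5
      interval_cases p <;> first | omega | (norm_num at hp)
    have hk1 : k = 1 := by
      by_contra h1
      obtain rfl : k = 2 := by omega
      have h7 : p < 7 := by
        by_contra h7
        have := hk7 (by omega)
        omega
      have hpe : p = 5 := by interval_cases p <;> first | omega | (norm_num at hp)
      obtain ⟨i, hi⟩ := five_only hpe (g := (g : GL chevG2.Idx F)) g.2
        (by rw [Subgroup.orderOf_coe, ← hn, hnm]; exact dvd_mul_right _ _)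
      rw [Subgroup.orderOf_coe, ← hn] at hi
      have : 3 ∣ p ^ i := hi ▸ hnm ▸ h3m.trans (dvd_mul_left _ _)
      have := Nat.prime_three.dvd_of_dvd_pow this
      omega
    subst hk1
    rw [pow_one] at hnm
    have hy : orderOf (g ^ p) = 3 ^ j := by
      rw [orderOf_pow_of_dvd hp.ne_zero (by rw [← hn, hnm]; exact dvd_mul_right _ _), ← hn, hnm, Nat.mul_div_cancel_left _ hp.pos, e]
    have h3q : ¬ 3 ∣ q := by
      obtain ⟨a, -, ha⟩ := FiniteField.card F p
      intro h
      rw [hq, ha] at h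
      exact hp3 ((Nat.prime_dvd_prime_iff_eq Nat.prime_three hp).1 (Nat.prime_three.dvd_of_dvd_pow h)).symm
    have hdvd := order_three hy p (three_dvd_sq h3q)
    rw [← hq, show q ^ 2 - 1 = (q + 1) * (q - 1) by
      rw [show (q : ℕ) ^ 2 - 1 = q ^ 2 - 1 ^ 2 by norm_num, Nat.sq_sub_sq]] at hdvd
    have h3 : ∀ {n : ℕ}, Nat.Coprime 3 n ↔ ¬ 3 ∣ n := fun {n} => Nat.prime_three.coprime_iff_not_dvd
    rcases (show q % 3 = 1 ∨ q % 3 = 2 by omega) with hmod | hmod
    · refine Or.inl (hnm ▸ e ▸ mul_dvd_mul_left p ?_)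
      exact ((h3.2 (by omega : ¬ 3 ∣ q + 1)).pow_left j).dvd_of_dvd_mul_left hdvd
    · refine Or.inr (Or.inl (hnm ▸ e ▸ mul_dvd_mul_left p ?_))
      exact ((h3.2 (by omega : ¬ 3 ∣ q - 1)).pow_left j).dvd_of_dvd_mul_right hdvd

end Cfsg.Lib.GTwoOrdOdd
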