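import Cfsg.Agent.Chev.GTwoOdd.Invol
import Mathlib.FieldTheory.IsAlgClosed.AlgebraicClosure
import Mathlib.FieldTheory.Finite.Extension

/-!
Element orders in the centraliser of an involution of `G₂`, odd characteristic.
-/

set_option autoImplicit false
set_option linter.unusedSectionVars false

open Cfsg.Lie Polynomial

namespace Cfsg.Lib.GTwoOrdOdd

open Cfsg.Lib.Chev Cfsg.Lib.GTwoOdd
open Cfsg.Lib.GTwoInv (S2 half_eq x i0 i1)

variable {F : Type*} [Field F]

local notation "GL2F" => GL (Fin 2) F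
local notation "M2" => Matrix (Fin 2) (Fin 2) F

/-- The trace. -/
def tr2 (A : GL2F) : F := (A : M2) 0 0 + (A : M2) 1 1

theorem cayley (A : GL2F) :
    (A : M2) * (A : M2) - tr2 A • (A : M2) + (dl A : F) • (1 : M2) = 0 := by
  have h := dl_val A
  ext i j
  fin_cases i <;> fin_cases j <;> simp [Matrix.mul_apply, Fin.sum_univ_two, tr2] <;>
    first | ring1 | linear_combination h | linear_combination -h

variable [Fintype F] (p : ℕ) [Fact p.Prime] [CharP F p]

theorem two_ne_zero' (hp2 : p ≠ 2) : (2 : F) ≠ 0 := fun h => by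
  have h1 : ((2 : ℕ) : F) = 0 := by exact_mod_cast h
  exact hp2 ((Nat.prime_dvd_prime_iff_eq (Fact.out : p.Prime) Nat.prime_two).1
    ((CharP.cast_eq_zero_iff F p 2).1 h1))

theorem glD_pow (a : Fˣ) : ∀ k : ℕ, (glD a a : GL2F) ^ k = glD (a ^ k) (a ^ k)
  | 0 => by rw [pow_zero, pow_zero]; ext i j; fin_cases i <;> fin_cases j <;> simp [glD]
  | n + 1 => by
    rw [pow_succ, glD_pow a n, pow_succ]
    ext i j; fin_cases i <;> fin_cases j <;> simp [glD, Matrix.mul_apply, Fin.sum_univ_two]

/-- A matrix is scalar times unipotent, or its eigenvalues are distinct. -/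
theorem gl2_cases (hp2 : p ≠ 2) (A : GL2F) :
    (∃ (a : Fˣ) (U : GL2F), A = glD a a * U ∧ U ^ p = 1 ∧ dl U = 1) ∨
      (A ^ (Fintype.card F ^ 2 - 1) = 1 ∧
        (dl A = 1 → A ^ (Fintype.card F - 1) = 1 ∨ A ^ (Fintype.card F + 1) = 1)) := by
  classical
  have h2 := two_ne_zero' (F := F) p hp2
  set τ := tr2 A with hτ
  set δ := dl A with hδ
  set q := Fintype.card F with hq
  have hq1 : 1 < q := Fintype.one_lt_card
  by_cases hdisc : τ ^ 2 = 4 * (δ : F)
  · refine Or.inl ?_
    set a0 := τ / 2 with ha0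
    have ha2 : a0 ^ 2 = (δ : F) := by
      rw [ha0, div_pow, hdisc]
      field_simp
      ring
    have ha00 : a0 ≠ 0 := fun h => δ.ne_zero (by rw [← ha2, h]; ring)
    set a := Units.mk0 a0 ha00 with ha
    refine ⟨a, (glD a a)⁻¹ * A, (mul_inv_cancel_left _ _).symm, ?_, ?_⟩
    · have hval : (((glD a a)⁻¹ * A : GL2F) : M2) = a0⁻¹ • (A : M2) := by
        ext i j
        fin_cases i <;> fin_cases j <;> simp [glD, Units.inv_mk, Matrix.mul_apply, Fin.sum_univ_two, ha]
      refine Units.ext ?_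
      rw [Units.val_pow_eq_pow_val, hval, Units.val_one]
      have hN : ((A : M2) - a0 • 1) ^ 2 = 0 := by
        have hc := cayley A
        rw [← hτ, ← hδ, show τ = a0 + a0 by rw [ha0]; field_simp; ring, ← ha2] at hc
        rw [pow_two, ← hc, sub_mul, mul_sub, mul_sub, Matrix.smul_mul, Matrix.mul_smul, one_mul, mul_one,
          Matrix.smul_mul, Matrix.mul_smul, one_mul, smul_smul, add_smul, pow_two]
        abel
      have hp3 : 2 ≤ p := (Fact.out : p.Prime).two_le
      have h0 : ((A : M2) - a0 • 1) ^ p = 0 := by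
        rw [show p = 2 + (p - 2) by omega, pow_add, hN, zero_mul]
      rw [sub_pow_char_of_commute _ ((Commute.one_right (A : M2)).smul_right a0), _root_.smul_pow, one_pow,
        sub_eq_zero] at h0
      rw [_root_.smul_pow, h0, smul_smul, ← mul_pow, inv_mul_cancel₀ ha00, one_pow, one_smul]
    · rw [map_mul, map_inv, dl_glD, ← hδ, inv_mul_eq_one]
      exact Units.ext (by rw [Units.val_mul, ha, Units.val_mk0, ← pow_two, ha2])
  refine Or.inr ?_
  let K := AlgebraicClosure F
  haveI : CharP K p := charP_of_injective_algebraMap (algebraMap F K).injective p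
  set f := algebraMap F K with hf
  obtain ⟨l, hl⟩ : ∃ l : K, (Polynomial.X ^ 2 - Polynomial.C (f τ) * Polynomial.X + Polynomial.C (f δ)).IsRoot l := by
    refine IsAlgClosed.exists_root _ ?_
    rw [show (Polynomial.X ^ 2 - Polynomial.C (f τ) * Polynomial.X + Polynomial.C (f δ) : K[X]).degree = 2 by
      compute_degree!]
    norm_num
  have hl' : l ^ 2 - f τ * l + f δ = 0 := by simpa using hl
  set m := f τ - l with hm
  have hlm : l * m = f δ := by rw [hm]; linear_combination -hl'
  have hfd : f (δ : F) ≠ 0 := by rw [Ne, map_eq_zero]; exact δ.ne_zero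
  have hne : l ≠ m := fun h => hdisc (f.injective (by
    rw [map_pow, map_mul, show f τ = l + m by rw [hm]; ring, ← hlm, ← h, map_ofNat]; ring))
  let σ := FiniteField.frobeniusAlgHom F K
  have hσ : ∀ z, σ z = z ^ q := fun z => rfl
  have hroot : ∀ z : K, z ^ 2 - f τ * z + f δ = 0 → z = l ∨ z = m := fun z hz => by
    have : (z - l) * (z - m) = 0 := by rw [hm]; linear_combination hz - hl'
    exact (mul_eq_zero.1 this).imp sub_eq_zero.1 sub_eq_zero.1
  have hσr : ∀ z : K, z ^ 2 - f τ * z + f δ = 0 → σ z = l ∨ σ z = m := fun z hz => by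
    refine hroot _ ?_
    have := congrArg σ hz
    rwa [map_zero, map_add, map_sub, map_mul, map_pow, hf, AlgHom.commutes, AlgHom.commutes, ← hf] at this
  have hm' : m ^ 2 - f τ * m + f δ = 0 := by rw [hm]; linear_combination hl'
  have hl0 : l ≠ 0 := fun h => hfd (by rw [← hlm, h, zero_mul])
  have hm0 : m ≠ 0 := fun h => hfd (by rw [← hlm, h, mul_zero])
  have hσinj : Function.Injective σ := σ.toRingHom.injective
  -- transfer of an exponent from the eigenvalues
  have transfer : ∀ k : ℕ, l ^ k = 1 → m ^ k = 1 → A ^ k = 1 := by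
    intro k hlk hmk
    have hcop : IsCoprime (Polynomial.X - Polynomial.C l) (Polynomial.X - Polynomial.C m) :=
      Polynomial.isCoprime_X_sub_C_of_isUnit_sub (sub_ne_zero.2 hne).isUnit
    have hdvd : (Polynomial.X - Polynomial.C l) * (Polynomial.X - Polynomial.C m) ∣
        (Polynomial.X ^ k - 1 : K[X]) := by
      refine hcop.mul_dvd ?_ ?_ <;> rw [Polynomial.dvd_iff_isRoot] <;> simp [hlk, hmk]
    obtain ⟨P, hP⟩ := hdvd
    set B := (A : M2).map f with hB
    have hz : Polynomial.aeval B ((Polynomial.X - Polynomial.C l) * (Polynomial.X - Polynomial.C m)) = 0 := by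
      simp only [map_mul, map_sub, Polynomial.aeval_X, Polynomial.aeval_C, Algebra.algebraMap_eq_smul_one]
      have e : (B - l • (1 : Matrix (Fin 2) (Fin 2) K)) * (B - m • 1) = B * B - (l + m) • B + (l * m) • 1 := by
        rw [sub_mul, mul_sub, mul_sub, Matrix.smul_mul, Matrix.smul_mul, Matrix.mul_smul, one_mul, mul_one,
          one_mul, smul_smul, add_smul]
        abel
      rw [e, show l + m = f τ by rw [hm]; ring, hlm]
      have hc := congrArg (fun M : M2 => M.map f) (cayley A)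
      rw [← hτ, ← hδ] at hc
      simpa [Matrix.map_add, Matrix.map_sub, Matrix.map_mul, Matrix.map_smul', hB] using hc
    have h1 := congrArg (Polynomial.aeval B) hP
    rw [map_mul, hz, zero_mul, map_sub, map_pow, Polynomial.aeval_X, map_one, sub_eq_zero] at h1
    refine Units.ext ?_
    rw [Units.val_pow_eq_pow_val, Units.val_one]
    refine Matrix.map_injective f.injective ?_
    show f.mapMatrix ((A : M2) ^ k) = f.mapMatrix 1
    rw [map_pow, map_one]
    exact h1
  have hdiv1 : q - 1 ∣ q ^ 2 - 1 := by simpa using Nat.sub_dvd_pow_sub_pow q 1 2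
  have hsq : q ^ 2 = q * q := pow_two q
  rcases hσr l hl' with hcase | hcase
  · have hmc : σ m = m := (hσr m hm').resolve_left fun h => hne (hσinj (hcase.trans h.symm))
    have hpow : ∀ z : K, z ≠ 0 → σ z = z → z ^ (q - 1) = 1 := fun z hz h => by
      refine mul_right_cancel₀ hz ?_
      rw [← pow_succ, show q - 1 + 1 = q by omega, ← hσ, h, one_mul]
    have e := transfer (q - 1) (hpow l hl0 hcase) (hpow m hm0 hmc)
    obtain ⟨c, hc⟩ := hdiv1
    exact ⟨by rw [hc, pow_mul, e, one_pow], fun _ => Or.inl e⟩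
  · have hmc : σ m = l := (hσr m hm').resolve_right fun h => hne (hσinj (hcase.trans h.symm))
    have h2 : ∀ z : K, z ≠ 0 → σ (σ z) = z → z ^ (q ^ 2 - 1) = 1 := fun z hz h => by
      refine mul_right_cancel₀ hz ?_
      rw [← pow_succ, show q ^ 2 - 1 + 1 = q ^ 2 by
        have := Nat.one_le_pow 2 q (by omega)
        omega, hsq, pow_mul, ← hσ, ← hσ, h, one_mul]
    refine ⟨transfer _ (h2 l hl0 (by rw [hcase, hmc])) (h2 m hm0 (by rw [hmc, hcase])), fun h1 => Or.inr ?_⟩
    refine transfer _ ?_ ?_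
    · rw [pow_succ, ← hσ, hcase, mul_comm, hlm, h1, Units.val_one, map_one]
    · rw [pow_succ, ← hσ, hmc, hlm, h1, Units.val_one, map_one]

/-- The order of the image of a pair with one factor scalar times unipotent. -/
theorem pair_unip (hp2 : p ≠ 2) (P : ↥(Pairs F)) (a : Fˣ) (U B : GL2F) (hU : U ^ p = 1) (hB : dl B = 1)
    (hP : P.1 = (glD a a * U, glD a a * B) ∨ P.1 = (glD a a * B, glD a a * U)) :
    orderOf (Phi P) ∣ p * (Fintype.card F - 1) ∨ orderOf (Phi P) ∣ p * (Fintype.card F + 1) := by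
  classical
  set q := Fintype.card F with hq
  have hodd : Odd q := by
    obtain ⟨n, -, hn⟩ := FiniteField.card F p
    rw [hq, hn]
    exact ((Fact.out : p.Prime).odd_of_ne_two hp2).pow
  have key : ∀ k : ℕ, U ^ k = 1 → B ^ k = 1 → orderOf (Phi P) ∣ k := by
    intro k hUk hBk
    refine orderOf_dvd_of_pow_eq_one ?_
    rw [← map_pow, Phi_eq_one_iff]
    have hc : ∀ V : GL2F, V ^ k = 1 → (glD a a * V) ^ k = glD (a ^ k) (a ^ k) := by
      intro V hV
      rw [(show Commute (glD a a) V from glD_comm a V).mul_pow, hV, mul_one, glD_pow]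
    refine ⟨a ^ k, ?_⟩
    rw [SubmonoidClass.coe_pow]
    rcases hP with e | e <;> rw [e, Prod.pow_mk, hc U hUk, hc B hBk]
  have hUk : ∀ c, U ^ (p * c) = 1 := fun c => by rw [pow_mul, hU, one_pow]
  rcases gl2_cases p hp2 B with ⟨b, V, hV, hVp, hV1⟩ | ⟨-, h⟩
  · refine Or.inl (key _ (hUk _) ?_)
    have hb : b * b = 1 := by
      have := congrArg dl hV
      rw [map_mul, hV1, mul_one, dl_glD, hB] at this
      exact this.symm
    obtain ⟨c, hc⟩ : 2 ∣ q - 1 := by obtain ⟨c, hc⟩ := hodd; exact ⟨c, by omega⟩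
    rw [hV, (show Commute (glD b b) V from glD_comm b V).mul_pow]
    rw [pow_mul V, hVp, one_pow, mul_one, hc, mul_left_comm, pow_mul]
    have e2 : glD b b ^ 2 = 1 := by
      rw [pow_two]
      ext i j
      fin_cases i <;> fin_cases j <;> simp [glD, Matrix.mul_apply, Fin.sum_univ_two, ← Units.val_mul, hb]
    rw [e2, one_pow]
  · rcases h hB with h | h
    · exact Or.inl (key _ (hUk _) (by rw [mul_comm, pow_mul, h, one_pow]))
    · exact Or.inr (key _ (hUk _) (by rw [mul_comm, pow_mul, h, one_pow]))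

/-- The order of an element of the centraliser of an involution. -/
theorem pair_order (hp2 : p ≠ 2) (P : ↥(Pairs F)) :
    orderOf (Phi P) ∣ Fintype.card F ^ 2 - 1 ∨ orderOf (Phi P) ∣ p * (Fintype.card F - 1) ∨
      orderOf (Phi P) ∣ p * (Fintype.card F + 1) := by
  obtain ⟨⟨A, B⟩, hAB⟩ := P
  have hd : dl A = dl B := mem_Pairs.1 hAB
  rcases gl2_cases p hp2 A with ⟨a, U, hA, hUp, hU1⟩ | ⟨hA, -⟩
  · refine Or.inr (pair_unip p hp2 _ a U ((glD a a)⁻¹ * B) hUp ?_ (Or.inl ?_))
    · rw [map_mul, map_inv, ← hd, hA, map_mul, hU1, mul_one, inv_mul_cancel]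
    · show (A, B) = _
      rw [hA, mul_inv_cancel_left]
  rcases gl2_cases p hp2 B with ⟨b, U, hB, hUp, hU1⟩ | ⟨hB, -⟩
  · refine Or.inr (pair_unip p hp2 _ b U ((glD b b)⁻¹ * A) hUp ?_ (Or.inr ?_))
    · rw [map_mul, map_inv, hd, hB, map_mul, hU1, mul_one, inv_mul_cancel]
    · show (A, B) = _
      rw [hB, mul_inv_cancel_left]
  refine Or.inl (orderOf_dvd_of_pow_eq_one ?_)
  rw [← map_pow, show (⟨(A, B), hAB⟩ : ↥(Pairs F)) ^ (Fintype.card F ^ 2 - 1) = 1 from
    Subtype.ext (by rw [SubmonoidClass.coe_pow, Prod.pow_mk, hA, hB]; rfl), map_one]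

/-- The order of an element of even order. -/
theorem order_even (hp2 : p ≠ 2) {g : ↥(chevG2.group F)} (he : 2 ∣ orderOf g) :
    orderOf g ∣ Fintype.card F ^ 2 - 1 ∨ orderOf g ∣ p * (Fintype.card F - 1) ∨
      orderOf g ∣ p * (Fintype.card F + 1) := by
  have hodd : Odd (Fintype.card F) := by
    obtain ⟨n, -, hn⟩ := FiniteField.card F p
    rw [hn]
    exact ((Fact.out : p.Prime).odd_of_ne_two hp2).pow
  haveI := neZero_two hodd
  have hfin : 0 < orderOf g := orderOf_pos g
  have ht2 : orderOf (g ^ (orderOf g / 2)) = 2 := orderOf_pow_orderOf_div hfin.ne' he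
  obtain ⟨a, ha⟩ := conj_hh hodd ht2
  set X := a * g * a⁻¹ with hX
  have hXo : orderOf X = orderOf g :=
    orderOf_injective (MulAut.conj a).toMonoidHom (MulAut.conj a).injective g
  have hm : X ∈ CG F := by
    refine Subgroup.mem_centralizer_singleton_iff.2 ?_
    rw [← ha, hX]
    calc a * g * a⁻¹ * (a * g ^ (orderOf g / 2) * a⁻¹) = a * (g * g ^ (orderOf g / 2)) * a⁻¹ := by group
      _ = a * (g ^ (orderOf g / 2) * g) * a⁻¹ := by rw [((Commute.refl g).pow_right _).eq]
      _ = _ := by group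
  have hm' : (X : GL chevG2.Idx F) ∈ (Phi (F := F)).range := CG_map (F := F) ▸ ⟨X, hm, rfl⟩
  obtain ⟨P, hP⟩ := hm'
  rw [← hXo, ← Subgroup.orderOf_coe, ← hP]
  exact pair_order p hp2 P

end Cfsg.Lib.GTwoOrdOdd
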